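import Mathlib.GroupTheory.GroupAction.Quotient
import Mathlib.GroupTheory.Index
import Mathlib.Data.Set.Card
import Mathlib.Tactic.Group

/-!
A group acting freely on a finite set has order dividing its cardinality.
-/

set_option autoImplicit false
set_option linter.style.haveILetI false

namespace CfsgLib.Bender.Tight

universe u

/-- A subgroup acting freely by conjugation on a finite set of elements. -/
theorem card_dvd_of_free {G : Type u} [Group G] [Finite G] (Δ : Subgroup G) (S : Set G)
    (hS : ∀ d ∈ Δ, ∀ x ∈ S, d * x * d⁻¹ ∈ S) (hfree : ∀ d ∈ Δ, ∀ x ∈ S, d * x * d⁻¹ = x → d = 1) :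
    Nat.card Δ ∣ S.ncard := by
  classical
  letI : MulAction Δ S :=
    { smul := fun d x => ⟨(d : G) * x * (d : G)⁻¹, hS d d.2 x x.2⟩
      one_smul := fun x => Subtype.ext (by show (1 : G) * x * (1 : G)⁻¹ = x; group)
      mul_smul := fun d e x => Subtype.ext (by
        show ((d : G) * e) * x * ((d : G) * e)⁻¹ = (d : G) * ((e : G) * x * (e : G)⁻¹) * (d : G)⁻¹
        group) }
  have h : ∀ x : S, MulAction.stabilizer Δ x = ⊥ := fun x => (Subgroup.eq_bot_iff_forall _).mpr fun d hd =>
    Subtype.ext (hfree d d.2 x x.2 (congrArg Subtype.val hd))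
  rw [← Nat.card_coe_set_eq,
    Nat.card_congr (MulAction.selfEquivOrbitsQuotientProd' (φ := Quotient.out) Quotient.out_eq' h), Nat.card_prod]
  exact dvd_mul_left _ _

end CfsgLib.Bender.Tight

namespace CfsgLib.Bender.Tight

universe v

/-- A group of automorphisms acting freely on a finite set of elements. -/
theorem card_dvd_of_free_aut {P : Type v} [Group P] [Finite P] (Δ : Subgroup (MulAut P)) (S : Set P)
    (hS : ∀ f ∈ Δ, ∀ x ∈ S, f x ∈ S) (hfree : ∀ f ∈ Δ, ∀ x ∈ S, f x = x → f = 1) :
    Nat.card Δ ∣ S.ncard := by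
  classical
  letI : MulAction Δ S :=
    { smul := fun f x => ⟨(f : MulAut P) x, hS f f.2 x x.2⟩
      one_smul := fun x => Subtype.ext rfl
      mul_smul := fun f g x => Subtype.ext rfl }
  have h : ∀ x : S, MulAction.stabilizer Δ x = ⊥ := fun x => (Subgroup.eq_bot_iff_forall _).mpr fun f hf =>
    Subtype.ext (hfree f f.2 x x.2 (congrArg Subtype.val hf))
  rw [← Nat.card_coe_set_eq,
    Nat.card_congr (MulAction.selfEquivOrbitsQuotientProd' (φ := Quotient.out) Quotient.out_eq' h), Nat.card_prod]
  exact dvd_mul_left _ _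

end CfsgLib.Bender.Tight
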