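import Cfsg.Agent.Lib.Bender.Tight.Layer

/-!
An involutory automorphism fixing two points that centralises the regular normal subgroup modulo its involutions
centralises it.
-/

set_option autoImplicit false
set_option linter.unusedSectionVars false
set_option linter.style.haveILetI false

namespace CfsgLib.Bender.Tight

open MulAction Cfsg CfsgLib.RankOne CfsgLib.SuzukiRankOne
open CfsgLib.AfterFT.SplitRankOne (invGroup mem_invGroup)

universe u v

variable {G : Type u} {Ω : Type v} [Group G] [Finite G] [MulAction G Ω] [FaithfulSMul G Ω] {a : Ω} {t : G}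
  {Q : Subgroup G} (hS : IsRankOneSetup G Ω a t Q) (h2 : Four G)

include hS h2

theorem outer_trivial {Δ : Subgroup G} (hL : Layer hS h2 Δ) (hsq : ∀ x ∈ Q, x * x ∈ invGroup hS h2)
    (hne : ∃ x ∈ Q, x * x ≠ 1)
    (hshape : (Nat.card Q = qZ G a ^ 2 ∧ ¬ Rsq a t Q) ∨
      (Nat.card Q = qZ G a ^ 3 ∧ Rsq a t Q ∧ ∀ x ∈ Q, x * x * (x * x) = 1))
    (σ : G ≃* G) (hσD : ∀ d ∈ D a t, σ d ∈ D a t) (hta : σ t • a = t • a) (htb : σ t • t • a = a)
    (hσ2 : σ (σ t) = t) (hmod : ∀ v ∈ Q, σ v * v⁻¹ ∈ invGroup hS h2) : ∀ v ∈ Q, σ v = v := by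
  classical
  have hcz : ∀ {z g : G}, z ∈ invGroup hS h2 → g ∈ Q → z * g = g * z := fun h h' => inv_comm hS h2 h h'
  have hz : ∀ z ∈ invGroup hS h2, σ z = z := by
    intro z hz
    obtain ⟨x, hx, rfl⟩ := exists_sqrt hS h2 hsq hne hz
    obtain ⟨y, hy, e⟩ : ∃ y ∈ invGroup hS h2, σ x = y * x := ⟨_, hmod x hx, by group⟩
    rw [map_mul, e]
    calc y * x * (y * x) = y * (x * y) * x := by group
      _ = y * y * (x * x) := by rw [← hcz hy hx]; group
      _ = x * x := by rw [hy.2, one_mul]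
  have hd : ∀ d ∈ D a t, σ d = d := by
    intro d hd
    set d' := σ d * d⁻¹ with hd'
    have hd'D : d' ∈ D a t := mul_mem (hσD d hd) (inv_mem hd)
    have hda := ((mem_D hS).mp hd).1
    have hcz' : ∀ z ∈ invGroup hS h2, d' * z * d'⁻¹ = z := by
      intro z hzI
      have hz' : d⁻¹ * z * d ∈ invGroup hS h2 := by
        simpa using CfsgLib.AfterFT.SplitRankOne.conj_mem_invGroup hS h2 (inv_mem hd) hzI
      have e : σ d * (d⁻¹ * z * d) * (σ d)⁻¹ = z := by
        calc σ d * (d⁻¹ * z * d) * (σ d)⁻¹ = σ (d * (d⁻¹ * z * d) * d⁻¹) := by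
              rw [map_mul, map_mul, map_inv, hz _ hz']
          _ = z := by rw [show d * (d⁻¹ * z * d) * d⁻¹ = z by group, hz z hzI]
      rw [hd']
      exact (by group : σ d * d⁻¹ * z * (σ d * d⁻¹)⁻¹ = σ d * (d⁻¹ * z * d) * (σ d)⁻¹).trans e
    have hcv : ∀ v ∈ Q, ∃ y ∈ invGroup hS h2, d' * v * d'⁻¹ = y * v := by
      intro v hv
      have hv' : d⁻¹ * v * d ∈ Q := conj_Q' hS hda hv
      obtain ⟨y₁, hy₁, e₁⟩ : ∃ y ∈ invGroup hS h2, σ v = y * v := ⟨_, hmod v hv, by group⟩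
      obtain ⟨y₂, hy₂, e₂⟩ : ∃ y ∈ invGroup hS h2, σ (d⁻¹ * v * d) = y * (d⁻¹ * v * d) := ⟨_, hmod _ hv', by group⟩
      refine ⟨(σ d * y₂ * (σ d)⁻¹)⁻¹ * y₁, mul_mem (inv_mem ?_) hy₁, ?_⟩
      · exact CfsgLib.AfterFT.SplitRankOne.conj_mem_invGroup hS h2 (hσD d hd) hy₂
      have e : σ d * (y₂ * (d⁻¹ * v * d)) * (σ d)⁻¹ = y₁ * v := by
        rw [← e₂, ← map_inv, ← map_mul, ← map_mul, ← e₁]
        congr 1; group
      rw [hd', mul_assoc _ y₁ v, ← e]
      group
    have hfix : ∀ x ∈ Q, x * d' = d' * x := by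
      intro v hv
      obtain ⟨y, hy, e⟩ := hcv v hv
      have hyc : d' * y = y * d' := mul_inv_eq_iff_eq_mul.mp (hcz' y hy)
      have hyp := eq_one_of_shift hS (p := orderOf d') (pow_orderOf_eq_one d') hyc e
      have hy1 : y = 1 := by
        obtain ⟨j, hj⟩ : Odd (orderOf d') := hS.odd_card.of_dvd_nat (Subgroup.orderOf_dvd_natCard _ hd'D)
        rwa [hj, pow_succ, pow_mul, pow_two, hy.2, one_pow, one_mul] at hyp
      rw [hy1, one_mul, mul_inv_eq_iff_eq_mul] at e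
      exact e.symm
    exact mul_inv_eq_one.mp (eq_one_of_cent_Q hS hd'D hfix)
  have htσ : σ t = t := by
    have hk : t * σ t ∈ D a t := by
      rw [mem_D hS, mul_smul, hta, smul_smul_t hS, mul_smul, htb]
      exact ⟨rfl, rfl⟩
    have e := hd _ hk
    rw [map_mul, hσ2] at e
    have ht := hS.mul_self
    have hi : (σ t)⁻¹ = σ t := by
      rw [← map_inv, inv_t hS]
    have h1 : t * σ t = 1 := D_mul_self hS hk (by
      calc t * σ t * (t * σ t) = t * σ t * (σ t * t) := by rw [← e]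
        _ = t * (σ t * σ t) * t := by group
        _ = 1 := by rw [show σ t * σ t = 1 by rw [← map_mul, ht, map_one], mul_one, ht])
    calc σ t = t⁻¹ * (t * σ t) := by group
      _ = t := by rw [h1, mul_one, inv_t hS]
  let Y : Subgroup G :=
    { carrier := {v | v ∈ Q ∧ σ v = v}
      one_mem' := ⟨one_mem _, map_one σ⟩
      mul_mem' := fun {x y} hx hy => ⟨mul_mem hx.1 hy.1, by rw [map_mul, hx.2, hy.2]⟩
      inv_mem' := fun {x} hx => ⟨inv_mem hx.1, by rw [map_inv, hx.2]⟩ }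
  rcases hL.cases_subgroup hS h2 (H := Y) (fun z hzI => ⟨invGroup_le hS h2 hzI, hz z hzI⟩) (fun v hv => hv.1)
    (fun d hdΔ v hv => ⟨conj_Q hS ((mem_D hS).mp (hL.le hdΔ)).1 hv.1, by
      rw [map_mul, map_mul, map_inv, hv.2, hd d (hL.le hdΔ)]⟩) with hY | hY
  swap
  · exact fun v hv => (hY.ge hv).2
  exfalso
  rcases hshape with ⟨-, hr⟩ | ⟨hQ, -, -⟩
  · obtain ⟨⟨s, r⟩, ⟨hs, hrQ, he⟩, huniq⟩ := structure_eq hS
    have hsI : s ∈ invGroup hS h2 := ⟨hs.1, hs.2.2⟩
    obtain ⟨y, hy, e⟩ : ∃ y ∈ invGroup hS h2, σ r = y * r := ⟨_, hmod r hrQ, by group⟩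
    have hσr : σ r ∈ Q := e ▸ mul_mem (invGroup_le hS h2 hy) hrQ
    have h := huniq (s, σ r) ⟨hs, hσr, by
      have := congrArg σ he
      simpa [map_mul, map_inv, htσ, hz s hsI] using this⟩
    have hrY : r ∈ Y := ⟨hrQ, congrArg Prod.snd h⟩
    exact hr (rsq_of_one hS hs hrQ he (hY.le hrY).2)
  · -- the commutator map has kernel at least `|Q| / q`
    let φ : Q →* invGroup hS h2 :=
      { toFun := fun v => ⟨σ v * (v : G)⁻¹, hmod v v.2⟩
        map_one' := Subtype.ext (by simp)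
        map_mul' := fun v w => Subtype.ext (by
          show σ ((v : G) * w) * ((v : G) * w)⁻¹ = σ v * (v : G)⁻¹ * (σ w * (w : G)⁻¹)
          rw [map_mul, mul_assoc (σ v) (v : G)⁻¹, ← hcz (hmod w w.2) (inv_mem v.2)]
          group) }
    have hker : Nat.card φ.ker ≤ qZ G a := by
      rw [← card_invGroup hS h2]
      refine Nat.card_le_card_of_injective (fun v : φ.ker => (⟨((v : Q) : G), hY.le ⟨v.1.2, ?_⟩⟩ : invGroup hS h2)) ?_
      · exact mul_inv_eq_one.mp (congrArg Subtype.val v.2)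
      · intro v w h
        exact Subtype.ext (Subtype.ext (congrArg (fun z : invGroup hS h2 => (z : G)) h))
    have hr' : Nat.card φ.range ≤ qZ G a := by
      rw [← card_invGroup hS h2]; exact Subgroup.card_le_card_group _
    have h1 := φ.ker.card_mul_index
    rw [Subgroup.index_ker, hQ] at h1
    have h2' := Nat.mul_le_mul hker hr'
    rw [h1] at h2'
    have hq3 := three_le_qZ hS h2
    have hpos : 0 < qZ G a * qZ G a := by positivity
    nlinarith

end CfsgLib.Bender.Tight
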