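import Cfsg.Agent.Lib.Bender.Tight.FreeCount
import Mathlib.GroupTheory.Subgroup.Center
import Mathlib.Algebra.BigOperators.Group.Finset.Basic
import Mathlib.Tactic

/-!
A group with all squares in a central subgroup of order two on which a large group of automorphisms acts freely has
exponent two: the Gauss sum of its squaring map would not be a square root of the order.
-/

set_option autoImplicit false
set_option linter.style.haveILetI false

namespace CfsgLib.Bender.Tight

universe u

/-- The cofactor of a divisor congruent to one. -/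
theorem layer_arith {m k n : ℕ} (hm : 5 < m) (hn : n ≤ 3) (hd : m * k + 1 ∣ m * n + 1) : k = 0 ∨ k = n := by
  rcases Nat.eq_zero_or_pos k with hk | hk
  · exact Or.inl hk
  refine Or.inr ?_
  obtain ⟨j, hj⟩ := hd
  rcases Nat.lt_or_ge j 2 with hj2 | hj2
  · interval_cases j
    · omega
    · exact Nat.eq_of_mul_eq_mul_left (show 0 < m by omega) (by omega)
  · have hj1 : m ∣ j - 1 := by
      have hz : (m : ℤ) ∣ (j : ℤ) - 1 := ⟨(n : ℤ) - (k : ℤ) * j, by
        have := congrArg (Nat.cast : ℕ → ℤ) hj
        push_cast at this ⊢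
        linarith⟩
      rwa [← Nat.cast_one, ← Nat.cast_sub (by omega), Int.natCast_dvd_natCast] at hz
    have h1 := Nat.le_of_dvd (by omega) hj1
    have h2' : m * n + 1 ≤ 3 * m + 1 := by nlinarith
    have h3 : (m + 1) * (m + 1) ≤ (m * k + 1) * j := Nat.mul_le_mul (by nlinarith) (by omega)
    nlinarith

variable {P : Type u} [Group P] [Finite P]

/-- All squares are trivial. -/
theorem squares_trivial {z : P} (hz1 : z ≠ 1) (hz2 : z * z = 1) (hzc : ∀ x : P, z * x = x * z)
    (hsq : ∀ x : P, x * x = 1 ∨ x * x = z) (Δ : Subgroup (MulAut P)) (hfix : ∀ f ∈ Δ, f z = z)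
    (hfree : ∀ f ∈ Δ, ∀ x : P, x ≠ 1 → x ≠ z → f x = x → f = 1) (h5 : 5 < Nat.card Δ)
    (hodd : Odd (Nat.card Δ)) (hbound : Nat.card P ≤ 2 * (3 * Nat.card Δ + 1)) : ∀ x : P, x * x = 1 := by
  classical
  haveI := Fintype.ofFinite P
  set m := Nat.card Δ with hm
  let Z : Subgroup P :=
    { carrier := {1, z}
      one_mem' := Or.inl rfl
      mul_mem' := by
        rintro a b (rfl | rfl) (rfl | rfl) <;> simp [hz2]
      inv_mem' := by
        rintro a (rfl | rfl)
        · simp
        · exact Or.inr (inv_eq_of_mul_eq_one_right hz2) }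
  have hmemZ : ∀ {x : P}, x ∈ Z ↔ x = 1 ∨ x = z := Iff.rfl
  have hZ2 : Nat.card Z = 2 := by
    show Nat.card ({1, z} : Set P) = 2
    rw [Nat.card_coe_set_eq, Set.ncard_pair (Ne.symm hz1)]
  have hfmem : ∀ f ∈ Δ, ∀ {x : P}, f x ∈ Z → x ∈ Z := by
    intro f hf x h
    rcases hmemZ.mp h with h | h
    · exact hmemZ.mpr (Or.inl ((MulEquiv.map_eq_one_iff f).mp h))
    · exact hmemZ.mpr (Or.inr (f.injective (h.trans (hfix f hf).symm)))
  have hcop : Nat.Coprime m 2 := Nat.coprime_two_right.mpr hodd
  have hdvd : ∀ S : Set P, (∀ x ∈ S, x ∉ Z) → (∀ f ∈ Δ, ∀ x ∈ S, f x ∈ S) → m ∣ S.ncard := fun S hS hS' =>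
    card_dvd_of_free_aut Δ S hS' fun f hf x hx e =>
      hfree f hf x (fun h => hS x hx (hmemZ.mpr (Or.inl h))) (fun h => hS x hx (hmemZ.mpr (Or.inr h))) e
  have key : ∀ K : Subgroup P, Z ≤ K → (∀ f ∈ Δ, ∀ x ∈ K, f x ∈ K) → ∃ k, Nat.card K = 2 * (m * k + 1) := by
    intro K hK hKinv
    obtain ⟨k', hk'⟩ := hZ2 ▸ Subgroup.card_dvd_of_le hK
    have h := hdvd ((K : Set P) \ (Z : Set P)) (fun x hx => hx.2)
      (fun f hf x hx => ⟨hKinv f hf x hx.1, fun h => hx.2 (hfmem f hf h)⟩)
    rw [Set.ncard_sdiff (show (Z : Set P) ⊆ K from hK), ← Nat.card_coe_set_eq, ← Nat.card_coe_set_eq,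
      SetLike.coe_sort_coe, SetLike.coe_sort_coe, hZ2, hk', show 2 * k' - 2 = 2 * (k' - 1) by omega] at h
    obtain ⟨k, hk⟩ := hcop.dvd_of_dvd_mul_left h
    refine ⟨k, ?_⟩
    have h0 : 0 < Nat.card K := Nat.card_pos
    omega
  obtain ⟨n, hn⟩ := key ⊤ le_top fun f _ x _ => Subgroup.mem_top _
  rw [Subgroup.card_top] at hn
  have hn3 : n ≤ 3 := by
    rw [hn] at hbound
    exact Nat.le_of_mul_le_mul_left (show m * n ≤ m * 3 by omega) (by omega)
  have hcases : ∀ K : Subgroup P, Z ≤ K → (∀ f ∈ Δ, ∀ x ∈ K, f x ∈ K) → K = Z ∨ K = ⊤ := by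
    intro K hK hKinv
    obtain ⟨k, hk⟩ := key K hK hKinv
    have hd : m * k + 1 ∣ m * n + 1 := by
      obtain ⟨i, hi⟩ := Subgroup.card_subgroup_dvd_card K
      exact ⟨i, Nat.eq_of_mul_eq_mul_left (show 0 < 2 by norm_num) (by rw [← hn, hi, hk]; ring)⟩
    rcases layer_arith h5 hn3 hd with rfl | rfl
    · exact Or.inl (Subgroup.eq_of_le_of_card_ge hK (by rw [hk, hZ2]; simp)).symm
    · exact Or.inr ((Subgroup.card_eq_iff_eq_top K).mp (hk.trans hn.symm))
  rcases Nat.eq_zero_or_pos n with hn0 | hn0
  · intro x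
    have htop : (⊤ : Subgroup P) = Z := (Subgroup.eq_of_le_of_card_ge le_top (by
      rw [Subgroup.card_top, hn, hn0, hZ2]; simp)).symm
    rcases hmemZ.mp (htop ▸ Subgroup.mem_top x) with rfl | rfl
    · exact mul_one 1
    · exact hz2
  -- commutation up to `z`
  have hsqc : ∀ x y : P, x * x * y = y * (x * x) := fun x y => by
    rcases hsq x with h | h <;> rw [h]
    · simp
    · exact hzc y
  have hcom : ∀ x y : P, y * x = x * y ∨ y * x = x * y * z := by
    intro x y
    have h1 : x⁻¹ * y⁻¹ * x * y = (x⁻¹ * x⁻¹) * ((x * y⁻¹) * (x * y⁻¹)) * (y * y) := by group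
    have hmem : x⁻¹ * y⁻¹ * x * y ∈ Z := by
      rw [h1]
      exact mul_mem (mul_mem (hmemZ.mpr (hsq _)) (hmemZ.mpr (hsq _))) (hmemZ.mpr (hsq _))
    rcases hmemZ.mp hmem with h | h
    · left
      calc y * x = y * x * (x⁻¹ * y⁻¹ * x * y) := by rw [h, mul_one]
        _ = x * y := by group
    · right
      calc y * x = y * x * (x⁻¹ * y⁻¹ * x * y) * z := by rw [h, mul_assoc (y * x), hz2, mul_one]
        _ = x * y * z := by group
  -- an abelian group
  have hab : (∀ x y : P, x * y = y * x) → ∀ x : P, x * x = 1 := by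
    intro hab x
    let sq : P →* P :=
      { toFun := fun x => x * x
        map_one' := mul_one 1
        map_mul' := fun x y => by
          rw [show x * y * (x * y) = x * (y * x) * y by group, hab y x]; group }
    rcases hcases sq.ker (fun x hx => by
        rcases hmemZ.mp hx with rfl | rfl
        · exact mul_one 1
        · exact hz2) (fun f _ x hx => by
        show f x * f x = 1
        rw [← map_mul, show x * x = 1 from hx, map_one]) with h | h
    · exfalso
      have h1 := sq.ker.card_mul_index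
      rw [Subgroup.index_ker, h, hZ2, hn] at h1
      have h2 : Nat.card sq.range ≤ Nat.card Z := Subgroup.card_le_of_le (by
        rintro _ ⟨y, rfl⟩; exact hmemZ.mpr (hsq y))
      rw [hZ2] at h2
      have : m ≤ m * n := Nat.le_mul_of_pos_right _ hn0
      omega
    · exact (show x ∈ sq.ker from h.ge (Subgroup.mem_top x))
  rcases hcases (Subgroup.center P) (fun x hx => Subgroup.mem_center_iff.mpr fun y => by
      rcases hmemZ.mp hx with rfl | rfl
      · simp
      · exact (hzc y).symm) (fun f _ x hx => Subgroup.mem_center_iff.mpr fun y => by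
      obtain ⟨y', rfl⟩ := f.surjective y
      rw [← map_mul, ← map_mul, Subgroup.mem_center_iff.mp hx y']) with hc | hc
  swap
  · exact hab fun x y => (Subgroup.mem_center_iff.mp (hc.ge (Subgroup.mem_top x)) y).symm
  -- the Gauss sum
  exfalso
  let ε : P → ℤ := fun x => if x * x = 1 then 1 else -1
  let β : P → P → ℤ := fun x c => if c * x = x * c then 1 else -1
  have hmul : ∀ x c, ε x * ε (x * c) = ε c * β x c := by
    intro x c
    have hne : z ≠ 1 := hz1
    rcases hcom x c with h | h
    · have e : x * c * (x * c) = x * x * (c * c) := by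
        rw [show x * c * (x * c) = x * (c * x) * c by group, h]; group
      simp only [ε, β, e, h, if_true]
      rcases hsq x with h1 | h1 <;> rcases hsq c with h3 | h3 <;> simp [h1, h3, hne, hz2]
    · have e : x * c * (x * c) = x * x * (c * c) * z := by
        rw [show x * c * (x * c) = x * (c * x) * c by group, h, mul_assoc (x * x) (c * c), hsqc c z]
        rw [show x * (x * c * z) * c = x * x * c * (z * c) by group, hzc c]
        rw [← hsqc c z]; group
      have hnc : ¬ c * x = x * c := fun h' => hne (mul_eq_left.mp (h.symm.trans h'))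
      simp only [ε, β, e, hnc, if_false]
      rcases hsq x with h1 | h1 <;> rcases hsq c with h3 | h3 <;> simp [h1, h3, hne, hz2]
  have hbeta : ∀ c, ∑ x, β x c = if c ∈ Z then (Nat.card P : ℤ) else 0 := by
    intro c
    by_cases hcZ : c ∈ Z
    · rw [if_pos hcZ, Nat.card_eq_fintype_card]
      have : ∀ x, β x c = 1 := fun x => if_pos (Subgroup.mem_center_iff.mp (hc.ge hcZ) x).symm
      simp [this]
    · rw [if_neg hcZ]
      obtain ⟨y, hy⟩ : ∃ y, c * y ≠ y * c := by
        by_contra hall
        push Not at hall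
        exact hcZ (hc.le (Subgroup.mem_center_iff.mpr fun y => (hall y).symm))
      have hflip : ∀ x, β (y * x) c = - β x c := by
        intro x
        have hy' : c * y = y * c * z := (hcom y c).resolve_left hy
        have e : c * (y * x) = y * (c * x) * z := by
          rw [← mul_assoc, hy', mul_assoc (y * c), hzc x]; group
        rcases hcom x c with h | h
        · have hn' : ¬ c * (y * x) = y * x * c := by
            rw [e, h, ← mul_assoc y x c]; exact fun h' => hz1 (mul_eq_left.mp h')
          simp only [β, if_pos h, if_neg hn']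
        · have hp : c * (y * x) = y * x * c := by
            rw [e, h, show y * (x * c * z) * z = y * (x * c) * (z * z) by group, hz2, mul_one, mul_assoc]
          have hn' : ¬ c * x = x * c := fun h' => hz1 (mul_eq_left.mp (h.symm.trans h'))
          simp only [β, if_pos hp, if_neg hn', neg_neg]
      have h1 : ∑ x, β x c = ∑ x, β (y * x) c := (Equiv.sum_comp (Equiv.mulLeft y) (fun x => β x c)).symm
      simp only [hflip, Finset.sum_neg_distrib] at h1
      linarith
  have hS2 : (∑ x, ε x) * (∑ x, ε x) = 2 * (Nat.card P : ℤ) := by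
    calc (∑ x, ε x) * (∑ x, ε x) = ∑ x, ∑ c, ε x * ε (x * c) := by
          rw [Finset.sum_mul]
          refine Finset.sum_congr rfl fun x _ => ?_
          rw [Finset.mul_sum]
          exact (Equiv.sum_comp (Equiv.mulLeft x) (fun y => ε x * ε y)).symm
      _ = ∑ c, ε c * ∑ x, β x c := by
          rw [Finset.sum_comm]
          refine Finset.sum_congr rfl fun c _ => ?_
          rw [Finset.mul_sum]
          exact Finset.sum_congr rfl fun x _ => hmul x c
      _ = ∑ c, if c ∈ Z then (Nat.card P : ℤ) else 0 := by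
          refine Finset.sum_congr rfl fun c _ => ?_
          rw [hbeta c]
          by_cases hcZ : c ∈ Z
          · rw [if_pos hcZ]
            rcases hmemZ.mp hcZ with rfl | rfl <;> simp [ε, hz2]
          · rw [if_neg hcZ, mul_zero]
      _ = _ := by
          rw [← Finset.sum_filter, Finset.sum_const, nsmul_eq_mul]
          congr 1
          have e2 : (Finset.univ.filter fun c => c ∈ Z).card = 2 := by
            rw [← Fintype.card_subtype, ← Nat.card_eq_fintype_card]; exact hZ2
          exact_mod_cast e2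
  -- the number of elements of square one
  let A : Set P := {x | x ∉ Z ∧ x * x = 1}
  obtain ⟨k, hk⟩ := hdvd A (fun x hx => hx.1) fun f hf x hx =>
    ⟨fun h => hx.1 (hfmem f hf h), by rw [← map_mul, hx.2, map_one]⟩
  have hS : (∑ x, ε x) = 2 * ((2 + A.ncard : ℕ) : ℤ) - (Nat.card P : ℤ) := by
    have hB : {x : P | x * x = 1} = (Z : Set P) ∪ A := by
      ext x
      refine ⟨fun h => ?_, ?_⟩
      · by_cases hx : x ∈ Z
        · exact Or.inl hx
        · exact Or.inr ⟨hx, h⟩
      · rintro (h | h)
        · rcases hmemZ.mp h with rfl | rfl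
          · exact mul_one 1
          · exact hz2
        · exact h.2
    have hcard : (Finset.univ.filter fun x : P => x * x = 1).card = 2 + A.ncard := by
      rw [← Set.ncard_coe_finset, Finset.coe_filter]
      simp only [Finset.mem_univ, true_and]
      rw [hB, Set.ncard_union_eq (Set.disjoint_left.mpr fun x hx hx' => hx'.1 hx) (Set.toFinite _) (Set.toFinite _),
        ← Nat.card_coe_set_eq (Z : Set P), SetLike.coe_sort_coe, hZ2]
    have : ∀ x, ε x = 2 * (if x * x = 1 then (1 : ℤ) else 0) - 1 := fun x => by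
      simp only [ε]; split_ifs <;> norm_num
    simp only [this, Finset.sum_sub_distrib, ← Finset.mul_sum, Finset.sum_boole, hcard, Finset.sum_const,
      Finset.card_univ, Nat.card_eq_fintype_card, nsmul_eq_mul, mul_one]
  rw [hS, hk, hn] at hS2
  push_cast at hS2
  generalize hj : (k : ℤ) - (n : ℤ) = j
  have h1 : (1 + (m : ℤ) * j) * (1 + (m : ℤ) * j) = (m : ℤ) * n + 1 := by
    rw [← hj]; nlinarith
  have h2 : j * (2 + (m : ℤ) * j) = (n : ℤ) := mul_left_cancel₀ (show (m : ℤ) ≠ 0 by omega) (by linarith)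
  have hm5 : (5 : ℤ) < (m : ℤ) := by exact_mod_cast h5
  have hn3' : (n : ℤ) ≤ 3 := by exact_mod_cast hn3
  have hn0' : (0 : ℤ) < (n : ℤ) := by exact_mod_cast hn0
  rcases lt_trichotomy j 0 with hj0 | hj0 | hj0
  · have hj1 : j ≤ -1 := by omega
    have e1 : (m : ℤ) * j ≤ -(m : ℤ) := by nlinarith
    nlinarith [mul_le_mul_of_nonpos_left (show 2 + (m : ℤ) * j ≤ -4 by omega) (show j ≤ 0 by omega)]
  · subst hj0; omega
  · have hj1 : 1 ≤ j := by omega
    have e1 : (m : ℤ) ≤ (m : ℤ) * j := by nlinarith
    nlinarith [mul_le_mul_of_nonneg_left (show 4 ≤ 2 + (m : ℤ) * j by omega) (show 0 ≤ j by omega)]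

end CfsgLib.Bender.Tight
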