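import Cfsg.Agent.Lib.Bender.Tight.RankOneData
import Mathlib.GroupTheory.PGroup

/-!
Small tools for the criterion on tightly embedded subgroups: odd quotients, images of Sylow subgroups, two-elements
of a point stabiliser.
-/

set_option autoImplicit false
set_option linter.unusedSectionVars false

namespace CfsgLib.Bender.Tight

open MulAction Cfsg CfsgLib.RankOne
open scoped Pointwise

universe u v

/-- An element of odd order normalising `J` that differs from a 2-element by factors in `J` lies in `J`. -/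
theorem mem_of_odd_quot {X : Type u} [Group X] {J : Subgroup X} {d y z : X} {k : ℕ}
    (hd : d ∈ Subgroup.normalizer (J : Set X)) (hy : y ∈ J) (hz : z ∈ J) (h : (y * d * z) ^ 2 ^ k = 1)
    (ho : Odd (orderOf d)) : d ∈ J := by
  have key : ∀ n : ℕ, ∃ j ∈ J, (y * d * z) ^ n = j * d ^ n := by
    intro n
    induction n with
    | zero => exact ⟨1, one_mem _, by simp⟩
    | succ n ih =>
      obtain ⟨j, hj, e⟩ := ih
      refine ⟨j * (d ^ n * y * (d ^ n)⁻¹) * (d ^ (n + 1) * z * (d ^ (n + 1))⁻¹), ?_, ?_⟩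
      · exact mul_mem (mul_mem hj ((Subgroup.mem_normalizer_iff.mp (pow_mem hd n) y).mp hy))
          ((Subgroup.mem_normalizer_iff.mp (pow_mem hd (n + 1)) z).mp hz)
      · rw [pow_succ, e, pow_succ d n]
        group
  obtain ⟨j, hj, e⟩ := key (2 ^ k)
  rw [h] at e
  have hdk : d ^ 2 ^ k ∈ J := by
    rw [eq_inv_of_mul_eq_one_right e.symm]
    exact inv_mem hj
  obtain ⟨i, hi⟩ := Nat.exists_eq_add_of_le (show 1 ≤ orderOf d from ho.pos)
  have hcop : Nat.Coprime (2 ^ k) (orderOf d) := (Nat.coprime_two_left.mpr ho).pow_left k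
  obtain ⟨m, hm⟩ := exists_pow_eq_self_of_coprime (x := d) hcop
  exact hm ▸ pow_mem hdk m

/-- A subgroup of odd index in a 2-group is the whole. -/
theorem eq_of_two_group {X : Type u} [Group X] [Finite X] {A J B : Subgroup X} (hAJ : A ≤ J) (hJB : J ≤ B)
    (hJ : IsPGroup 2 J) (hodd : Odd (A.relIndex B)) : J ≤ A := by
  haveI : Fact (Nat.Prime 2) := ⟨Nat.prime_two⟩
  obtain ⟨n, hn⟩ := IsPGroup.iff_card.mp hJ
  have h1 : A.relIndex J ∣ A.relIndex B := Dvd.intro _ (Subgroup.relIndex_mul_relIndex A J B hAJ hJB)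
  have h2 : A.relIndex J ∣ 2 ^ n := hn ▸ Dvd.intro_left _ (Subgroup.card_mul_index (A.subgroupOf J))
  exact Subgroup.relIndex_eq_one.mp (Nat.eq_one_of_dvd_coprimes
    (((Nat.coprime_two_right.mpr hodd)).pow_right n) h1 h2)

/-- An image has relative index dividing the original one. -/
theorem odd_relIndex_map {X : Type u} {Y : Type v} [Group X] [Group Y] (f : X →* Y) {A B : Subgroup X}
    (hodd : Odd (A.relIndex B)) : Odd ((A.map f).relIndex (B.map f)) := by
  refine hodd.of_dvd_nat ?_
  rw [← Subgroup.relIndex_comap]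
  exact Subgroup.relIndex_dvd_of_le_left _ (Subgroup.le_comap_map _ _)

section
variable {G : Type u} {Ω : Type v} [Group G] [Finite G] [MulAction G Ω] [FaithfulSMul G Ω] {a : Ω} {t : G}
  {Q : Subgroup G} (hS : IsRankOneSetup G Ω a t Q)
include hS

/-- A two-element fixing `a` lies in `Q`. -/
theorem two_mem_Q {e : G} (hea : e • a = a) {k : ℕ} (hk : e ^ 2 ^ k = 1) : e ∈ Q := by
  obtain ⟨x, hx, d, hd, rfl⟩ := exists_decomp hS hea
  refine mul_mem hx (mem_of_odd_quot (y := x) (z := 1) (k := k) ?_ hx (one_mem _) (by rwa [mul_one])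
    (hS.odd_card.of_dvd_nat (Subgroup.orderOf_dvd_natCard _ hd)))
  rw [normalizer_Q hS]
  exact D_le hS hd

end

end CfsgLib.Bender.Tight
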