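import Cfsg.Agent.Lib.Bender.Tight.Setting
import Cfsg.Agent.Lib.Bender.Tight.Tools
import Cfsg.Agent.Lib.Bender.Tight.Outer
import Cfsg.Agent.Lib.Bender.Tight.QuadCount
import Cfsg.Agent.Lib.Bender.GoodAll

/-!
An involution of the normal closure of a tightly embedded subgroup with two commuting involutions fixes only one
conjugate: the permutation image is a group with a strongly embedded subgroup and the kernel splits off.

Blueprint: `blueprint/bender/Q.md` VII (S1911).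
-/

set_option autoImplicit false
set_option linter.unusedSectionVars false
set_option linter.style.haveILetI false

namespace CfsgLib.Bender.Tight

open MulAction
open CfsgLib.Bender.TwoClosed (IsInv)
open CfsgLib.Bender.Assembly (orderOf_two isInv_of_orderOf fix_iff)
open CfsgLib.Bender.Q (Crit TheoremQ permImg permGrp permImg_eq_one permImg_smul mem_normalCore_of_fix)
open CfsgLib.AfterFT.SplitRankOne (invGroup)
open scoped Pointwise

universe u

variable {G : Type u} [Group G] [Finite G] {Q : Subgroup G} (h : OddMeet Q) (hnn : ¬ Q.Normal)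
  {T : Sylow 2 G} (hTM : (T : Subgroup G) ≤ Subgroup.normalizer (Q : Set G))

local notation "MM" => Subgroup.normalizer (Q : Set G)
local notation "Pts" => G ⧸ Subgroup.normalizer (Q : Set G)
local notation "KK" => Subgroup.normalClosure (Q : Set G)
local notation "TK" => (T : Subgroup G) ⊓ Subgroup.normalClosure (Q : Set G)
local notation "NN" => Subgroup.closure (Zs Q)
local notation "ff" => permImg G (G ⧸ Subgroup.normalizer (Q : Set G))
local notation "pt0" => ((1 : G) : G ⧸ Subgroup.normalizer (Q : Set G))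
local notation "GP" => permGrp G (G ⧸ Subgroup.normalizer (Q : Set G))
local notation "NB" =>
  Subgroup.map (permImg G (G ⧸ Subgroup.normalizer (Q : Set G))) (Subgroup.closure (Zs Q))
local notation "QB" => Subgroup.map (permImg G (G ⧸ Subgroup.normalizer (Q : Set G))) Q

theorem ff_surj : Function.Surjective ff := MonoidHom.rangeRestrict_surjective _

theorem ff_eq_one {x : G} : ff x = 1 ↔ x ∈ (MM).normalCore :=
  ⟨fun e => mem_normalCore_of_fix (permImg_eq_one.mp e),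
    fun e => permImg_eq_one.mpr fun c => CfsgLib.Bender.Q.fix_normalCore e c⟩

theorem fix_pt0 {g : G} : g • pt0 = pt0 ↔ g ∈ MM := by rw [fix_iff]; simp

theorem ff_fix {g : G} : ff g • pt0 = pt0 ↔ g ∈ MM := by rw [permImg_smul]; exact fix_pt0

theorem TK_two : IsPGroup 2 ↥(TK) := T.2.to_le inf_le_left

theorem NN_normal (hc : Crit MM (Zs Q)) : (NN).Normal := ⟨fun x hx g => by
  have hle : NN ≤ (NN).comap (MulAut.conj g).toMonoidHom :=
    (Subgroup.closure_le _).mpr fun y hy => Subgroup.subset_closure (hc.conj y hy g)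
  exact hle hx⟩

include h hnn

theorem nn_le : NN ≤ KK := (Subgroup.closure_le _).mpr fun w hw => by
  obtain ⟨-, g, hg⟩ := hw
  have := Subgroup.normalClosure_normal.conj_mem _ (Subgroup.subset_normalClosure hg) g
  simpa [mul_assoc] using this

theorem exists_in_M (g : G) : ∃ n ∈ NN, n⁻¹ * g ∈ MM := by
  by_cases hg : g ∈ MM
  · exact ⟨1, one_mem _, by simpa using hg⟩
  obtain ⟨w, hw, e, -⟩ := CfsgLib.Bender.Q.exists_swap (crit h hnn).hyp
    (show (pt0 : Pts) ≠ ((g : G) : Pts) from fun e => hg (by simpa using QuotientGroup.eq.mp e))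
  refine ⟨w, Subgroup.subset_closure hw, QuotientGroup.eq.mp ?_⟩
  rw [MulAction.Quotient.smul_coe, smul_eq_mul, mul_one] at e
  exact e

theorem exists_decomp_K {x : G} (hx : x ∈ KK) : ∃ n ∈ NN, ∃ q ∈ Q, x = n * q := by
  haveI := NN_normal (crit h hnn)
  haveI : (NN ⊔ Q).Normal := ⟨fun y hy g => by
    obtain ⟨n, hn, hm⟩ := exists_in_M h hnn g
    obtain ⟨n', hn', q, hq, rfl⟩ := Subgroup.mem_sup_of_normal_left.mp hy
    rw [show g * (n' * q) * g⁻¹ =
      n * (((n⁻¹ * g) * n' * (n⁻¹ * g)⁻¹) * ((n⁻¹ * g) * q * (n⁻¹ * g)⁻¹)) * n⁻¹ by group]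
    exact mul_mem (mul_mem (Subgroup.mem_sup_left hn) (mul_mem
      (Subgroup.mem_sup_left ((inferInstance : (NN).Normal).conj_mem n' hn' _))
      (Subgroup.mem_sup_right (conj_mem_Q hm hq)))) (Subgroup.mem_sup_left (inv_mem hn))⟩
  obtain ⟨n, hn, q, hq, e⟩ := Subgroup.mem_sup_of_normal_left.mp
    (Subgroup.normalClosure_le_normal (N := NN ⊔ Q) (fun y hy => Subgroup.mem_sup_right hy) hx)
  exact ⟨n, hn, q, hq, e.symm⟩

theorem oneFix_NB (hA : TheoremQ.{u}) (hfour : ∃ y ∈ Q, ∃ z ∈ Q, IsInv y ∧ IsInv z ∧ y ≠ z ∧ y * z = z * y) :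
    CfsgLib.Bender.OneFix ↥(NB) Pts := by
  have hc := crit h hnn
  haveI := NN_normal hc
  refine ⟨⟨fun c d => ?_⟩, fun x hx => ?_, ?_⟩
  · by_cases hcd : c = d
    · exact ⟨1, by rw [one_smul, hcd]⟩
    obtain ⟨w, hw, e, -⟩ := CfsgLib.Bender.Q.exists_swap hc.hyp hcd
    exact ⟨⟨ff w, Subgroup.mem_map_of_mem _ (Subgroup.subset_closure hw)⟩, e⟩
  · refine hA GP Pts _ (CfsgLib.Bender.Q.hyp_permImg hc.hyp) (x : GP) ?_
      ⟨fun e => hx.1 (Subtype.ext e), congrArg Subtype.val hx.2⟩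
    rw [← MonoidHom.map_closure]
    exact x.2
  · obtain ⟨y, hy, z, hz, hyi, hzi, hne, hcm⟩ := hfour
    have hmem : ∀ {w : G}, IsInv w → w ∈ Q → w ∈ NN := fun {w} hw hwQ =>
      Subgroup.subset_closure ⟨hw, 1, by simpa using hwQ⟩
    have h1 : ∀ {w : G}, IsInv w → w ∈ Q → ff w ≠ 1 := fun {w} hw hwQ e =>
      not_inv_core h hnn hw hwQ (ff_eq_one.mp e)
    refine ⟨⟨ff y, Subgroup.mem_map_of_mem _ (hmem hyi hy)⟩, ⟨ff z, Subgroup.mem_map_of_mem _ (hmem hzi hz)⟩,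
      fun e => h1 hyi hy (congrArg Subtype.val e), fun e => h1 hzi hz (congrArg Subtype.val e), fun e => ?_,
      Subtype.ext (by show ff y * ff y = 1; rw [← map_mul, hyi.2, map_one]),
      Subtype.ext (by show ff z * ff z = 1; rw [← map_mul, hzi.2, map_one]),
      Subtype.ext (by show ff y * ff z = ff z * ff y; rw [← map_mul, ← map_mul, hcm])⟩
    refine h1 (w := y * z) ⟨fun e' => hne ?_, ?_⟩ (mul_mem hy hz) ?_
    · rw [eq_inv_of_mul_eq_one_left e', hzi.inv]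
    · rw [mul_assoc, ← mul_assoc z, ← hcm, mul_assoc y, hzi.2, mul_one, hyi.2]
    · rw [map_mul, show ff y = ff z from congrArg Subtype.val e, ← map_mul, hzi.2, map_one]

include hTM

/-- The image of the Sylow subgroup of `Q`. -/
theorem exists_R_lift {y q : G} (hy : y ∈ (T : Subgroup G)) (hq : q ∈ Q) (e : ff y = ff q) :
    ∃ r ∈ (T : Subgroup G), r ∈ Q ∧ ff r = ff y := by
  haveI : Fact (Nat.Prime 2) := ⟨Nat.prime_two⟩
  haveI : (Q.subgroupOf MM).Normal := Subgroup.normal_in_normalizer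
  have hodd := CfsgLib.AfterFT.PairClosed.odd_index_inf_normal (T.subtype hTM) (Q.subgroupOf MM)
  rw [Subgroup.inf_relIndex_right, Sylow.coe_subtype, Subgroup.relIndex_subgroupOf le_normalizer',
    ← Subgroup.inf_relIndex_right] at hodd
  obtain ⟨r, hr, hre⟩ := eq_of_two_group (A := ((T : Subgroup G) ⊓ Q).map ff)
    (J := (T : Subgroup G).map ff ⊓ QB) (B := QB) (Subgroup.map_inf_le _ _ _) inf_le_right
    ((T.2.map _).to_le inf_le_left) (odd_relIndex_map _ hodd) ⟨⟨y, hy, rfl⟩, ⟨q, hq, e.symm⟩⟩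
  exact ⟨r, hr.1, hr.2, hre⟩

variable {t : ↥((Subgroup.map (permImg G (G ⧸ Subgroup.normalizer (Q : Set G))) (Subgroup.closure (Zs Q))))} {U : Subgroup ↥((Subgroup.map (permImg G (G ⧸ Subgroup.normalizer (Q : Set G))) (Subgroup.closure (Zs Q))))} [FaithfulSMul ↥((Subgroup.map (permImg G (G ⧸ Subgroup.normalizer (Q : Set G))) (Subgroup.closure (Zs Q)))) (G ⧸ Subgroup.normalizer (Q : Set G))]
  (hS : Cfsg.IsRankOneSetup ↥((Subgroup.map (permImg G (G ⧸ Subgroup.normalizer (Q : Set G))) (Subgroup.closure (Zs Q)))) (G ⧸ Subgroup.normalizer (Q : Set G)) ((1 : G) : G ⧸ Subgroup.normalizer (Q : Set G)) t U) (hU2 : IsPGroup 2 U)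
include hS hU2

omit hU2 hTM in
/-- A point stabiliser element of the image lifts into the normaliser. -/
theorem exists_lift {e : ↥(NB)} (he : e • pt0 = pt0) : ∃ n ∈ NN, n ∈ MM ∧ ff n = e := by
  obtain ⟨n, hn, hne⟩ := e.2
  exact ⟨n, hn, ff_fix.mp (hne ▸ he), hne⟩

omit hTM hU2 in
theorem mem_U {y : GP} (hy : y ∈ NB) (hya : y • pt0 = pt0) {k : ℕ} (hk : y ^ 2 ^ k = 1) :
    (⟨y, hy⟩ : ↥(NB)) ∈ U :=
  two_mem_Q hS hya (k := k) (Subtype.ext (by rw [SubmonoidClass.coe_pow]; exact hk))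

omit hTM in
/-- Conjugation by the normaliser preserves `U`. -/
theorem conj_U {g : G} (hg : g ∈ MM) {v : ↥(NB)} (hv : v ∈ U) :
    ∃ w ∈ U, (w : GP) = ff g * v * (ff g)⁻¹ := by
  haveI := NN_normal (crit h hnn)
  haveI : (NB).Normal := Subgroup.Normal.map inferInstance _ ff_surj
  obtain ⟨k, hk⟩ := hU2 ⟨v, hv⟩
  refine ⟨⟨_, (inferInstance : (NB).Normal).conj_mem _ v.2 (ff g)⟩, mem_U h hnn hS _ ?_ (k := k) ?_, rfl⟩
  · have hva : (v : GP) • pt0 = pt0 := RankOne.mem_Q_a hS hv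
    have hga : ff g • pt0 = pt0 := ff_fix.mpr hg
    rw [mul_smul, mul_smul, inv_smul_eq_iff.mpr hga.symm, hva, hga]
  · have : (v : GP) ^ 2 ^ k = 1 := congrArg (fun z : U => ((z : ↥(NB)) : GP)) hk
    rw [conj_pow, this, mul_one, mul_inv_cancel]

theorem U_le_image {v : ↥(NB)} (hv : v ∈ U) : ∃ y ∈ TK, ff y = v := by
  haveI : Fact (Nat.Prime 2) := ⟨Nat.prime_two⟩
  have hn : (TK).map ff ≤ Subgroup.normalizer (((U.map (NB).subtype : Subgroup GP)) : Set GP) := by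
    rintro _ ⟨g, hg, rfl⟩
    refine Subgroup.mem_normalizer_fintype fun y hy => ?_
    obtain ⟨v, hv, rfl⟩ := hy
    obtain ⟨w, hw, e⟩ := conj_U h hnn hS hU2 (hTM hg.1) hv
    exact ⟨w, hw, e⟩
  have hJ : IsPGroup 2 ↥((TK).map ff ⊔ U.map (NB).subtype) :=
    (TK_two.map _).to_sup_of_normal_right' (hU2.map _) hn
  obtain ⟨y, hy, e⟩ := eq_of_two_group (A := (TK).map ff) (J := (TK).map ff ⊔ U.map (NB).subtype)
    (B := (KK).map ff) le_sup_left
    (sup_le (Subgroup.map_mono inf_le_right)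
      ((Subgroup.map_subtype_le _).trans (Subgroup.map_mono (nn_le h hnn))))
    hJ (odd_relIndex_map _ (CfsgLib.AfterFT.PairClosed.odd_index_inf_normal T KK))
    (Subgroup.mem_sup_right ⟨v, hv, rfl⟩)
  exact ⟨y, hy, e⟩

omit hTM hU2 in
/-- An element of the stabiliser part of the closure over a normalised subgroup. -/
theorem image_mem {J : Subgroup GP} (hUJ : U.map (NB).subtype ≤ J) (hQJ : QB ≤ J)
    (hn : ∀ g ∈ MM, ff g ∈ Subgroup.normalizer (J : Set GP)) {x : G} (hxK : x ∈ KK) (hxM : x ∈ MM) {k : ℕ}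
    (hk : x ^ 2 ^ k = 1) : ff x ∈ J := by
  obtain ⟨n, hn', q, hq, rfl⟩ := exists_decomp_K h hnn hxK
  have hnM : n ∈ MM := by simpa [mul_assoc] using mul_mem hxM (inv_mem (le_normalizer' hq))
  let e : ↥(NB) := ⟨ff n, Subgroup.mem_map_of_mem _ hn'⟩
  obtain ⟨u, hu, d, hd, he⟩ := RankOne.exists_decomp hS (g := e) (ff_fix.mpr hnM)
  have hdJ : (d : GP) ∈ J := by
    obtain ⟨m, -, hm, hmd⟩ := exists_lift h hnn hS ((RankOne.mem_D hS).mp hd).1
    refine mem_of_odd_quot (y := (u : GP)) (z := ff q) (k := k) (hmd ▸ hn m hm) (hUJ ⟨u, hu, rfl⟩)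
      (hQJ ⟨q, hq, rfl⟩) ?_ ?_
    · rw [← Subgroup.coe_mul, ← he]
      show (ff n * ff q) ^ 2 ^ k = 1
      rw [← map_mul, ← map_pow, hk, map_one]
    · rw [Subgroup.orderOf_coe]
      exact hS.odd_card.of_dvd_nat (Subgroup.orderOf_dvd_natCard _ hd)
  rw [map_mul]
  refine mul_mem ?_ (hQJ ⟨q, hq, rfl⟩)
  have : ff n = (u : GP) * d := congrArg Subtype.val he
  rw [this]
  exact mul_mem (hUJ ⟨u, hu, rfl⟩) hdJ

/-- The elements of the kernel in the Sylow subgroup are trivial once a suitable quotient is abelian. -/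
theorem core_le_of_comm (H : Subgroup ↥(TK)) [H.Normal] (hcomm : ∀ x y : ↥(TK), x * y * x⁻¹ * y⁻¹ ∈ H)
    (hQ : ∀ x : ↥(TK), (x : G) ∈ Q → x ∈ H) {x : ↥(TK)} (hx : (x : G) ∈ (MM).normalCore) : x ∈ H :=
  mem_of_transfer h hnn hTM H hcomm hQ x hx

omit hS hU2 in
theorem core_comm {g y : G} (hy : y ∈ TK) (hgK : g ∈ KK) (hg : g ∈ (MM).normalCore)
    (hn : g * y * g⁻¹ ∈ (T : Subgroup G)) : g * y = y * g := by
  haveI : Fact (Nat.Prime 2) := ⟨Nat.prime_two⟩
  have ho := CfsgLib.Bender.Q.odd_orderOf_oddRad (comm_core h hnn hy.2 hg)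
  obtain ⟨k, hk⟩ := T.2 ⟨_, mul_mem hy.1 (inv_mem hn)⟩
  have h2 : orderOf (y * (g * y * g⁻¹)⁻¹) ∣ 2 ^ k := orderOf_dvd_of_pow_eq_one (congrArg Subtype.val hk)
  rw [show y * (g * y * g⁻¹)⁻¹ = y * g * y⁻¹ * g⁻¹ by group] at h2
  have := orderOf_eq_one_iff.mp
    (Nat.eq_one_of_dvd_coprimes ((Nat.coprime_two_right.mpr ho).pow_right k) dvd_rfl h2)
  rw [mul_inv_eq_one, mul_inv_eq_iff_eq_mul] at this
  exact this.symm

omit hS hU2 in
theorem core_central {w : ↥(TK)} (hw : (w : G) ∈ (MM).normalCore) (y : ↥(TK)) : w * y = y * w :=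
  Subtype.ext (core_comm h hnn hTM y.2 w.2.2 hw (mul_mem (mul_mem w.2.1 y.2.1) (inv_mem w.2.1)))

/-- Case A: every point stabiliser unipotent comes from `Q`. -/
theorem case_A (hUQ : ∀ v ∈ U, (v : GP) ∈ QB) {x : G} (hx : x ∈ TK) : x ∈ Q := by
  haveI : Fact (Nat.Prime 2) := ⟨Nat.prime_two⟩
  have hdec : ∀ y : ↥(TK), ∃ r : ↥(TK), (r : G) ∈ Q ∧ ((r⁻¹ * y : ↥(TK)) : G) ∈ (MM).normalCore := by
    intro y
    obtain ⟨k, hk⟩ := T.2 ⟨y, y.2.1⟩
    obtain ⟨q, hq, e⟩ : ff (y : G) ∈ QB := image_mem h hnn hS (J := QB)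
      (by rintro _ ⟨v, hv, rfl⟩; exact hUQ v hv) le_rfl
      (fun g hg => Subgroup.mem_normalizer_fintype fun z hz => by
        obtain ⟨q, hq, rfl⟩ := hz
        exact ⟨g * q * g⁻¹, conj_mem_Q hg hq, by simp⟩)
      y.2.2 (hTM y.2.1) (k := k) (congrArg Subtype.val hk)
    obtain ⟨r, hrT, hrQ, hre⟩ := exists_R_lift h hnn hTM y.2.1 hq e.symm
    refine ⟨⟨r, hrT, Subgroup.subset_normalClosure hrQ⟩, hrQ, ff_eq_one.mp ?_⟩
    show ff (r⁻¹ * y) = 1
    rw [map_mul, map_inv, hre, inv_mul_cancel]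
  let H : Subgroup ↥(TK) := Q.subgroupOf (TK)
  haveI : H.Normal := ⟨fun y hy g => (conj_mem_Q (hTM g.2.1) hy : (g : G) * y * (g : G)⁻¹ ∈ Q)⟩
  have hW : ∀ w : ↥(TK), (w : G) ∈ (MM).normalCore → w = 1 := fun w hw => by
    have hwH : (w : G) ∈ Q := core_le_of_comm h hnn hTM hS hU2 H (fun y z => by
      obtain ⟨r, hr, hwy⟩ := hdec y
      obtain ⟨r', hr', hwz⟩ := hdec z
      obtain ⟨a, rfl⟩ : ∃ a, r * a = y := ⟨r⁻¹ * y, by group⟩
      obtain ⟨b, rfl⟩ : ∃ b, r' * b = z := ⟨r'⁻¹ * z, by group⟩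
      rw [inv_mul_cancel_left] at hwy hwz
      have ca := core_central h hnn hTM hwy
      have cb := core_central h hnn hTM hwz
      have e : r * a * (r' * b) * (r * a)⁻¹ * (r' * b)⁻¹ = r * r' * r⁻¹ * r'⁻¹ := by
        calc r * a * (r' * b) * (r * a)⁻¹ * (r' * b)⁻¹ = r * (a * r') * (b * a⁻¹) * r⁻¹ * b⁻¹ * r'⁻¹ := by group
          _ = r * (r' * a) * (a⁻¹ * b) * r⁻¹ * b⁻¹ * r'⁻¹ := by rw [ca r', cb a⁻¹]
          _ = r * r' * (b * r⁻¹) * b⁻¹ * r'⁻¹ := by group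
          _ = r * r' * r⁻¹ * r'⁻¹ := by rw [cb r⁻¹]; group
      rw [e]
      show ((r * r' * r⁻¹ * r'⁻¹ : ↥(TK)) : G) ∈ Q
      exact mul_mem (mul_mem (mul_mem hr hr') (inv_mem hr)) (inv_mem hr')) (fun y hy => hy) hw
    obtain ⟨k, hk⟩ := T.2 ⟨w, w.2.1⟩
    exact Subtype.ext (eq_one_of_mem_core h hnn hwH (k := k) (congrArg Subtype.val hk) hw)
  obtain ⟨r, hr, hrx⟩ := hdec ⟨x, hx⟩
  have e : (r : G) = x := congrArg Subtype.val (inv_mul_eq_one.mp (hW (r⁻¹ * ⟨x, hx⟩) hrx))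
  exact e ▸ hr

section CaseB

variable (h2 : CfsgLib.SuzukiRankOne.Four ↥((Subgroup.map (permImg G (G ⧸ Subgroup.normalizer (Q : Set G))) (Subgroup.closure (Zs Q))))) {Δ : Subgroup ↥((Subgroup.map (permImg G (G ⧸ Subgroup.normalizer (Q : Set G))) (Subgroup.closure (Zs Q))))} (hL : Layer hS h2 Δ)
  (hsq : ∀ x ∈ U, x * x ∈ invGroup hS h2) (hne : ∃ x ∈ U, x * x ≠ 1)
  (hshape : (Nat.card U = SuzukiRankOne.qZ ↥((Subgroup.map (permImg G (G ⧸ Subgroup.normalizer (Q : Set G))) (Subgroup.closure (Zs Q)))) (((1 : G) : G ⧸ Subgroup.normalizer (Q : Set G)) : (G ⧸ Subgroup.normalizer (Q : Set G))) ^ 2 ∧ ¬ SuzukiRankOne.Rsq (((1 : G) : G ⧸ Subgroup.normalizer (Q : Set G)) : (G ⧸ Subgroup.normalizer (Q : Set G))) t U) ∨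
    (Nat.card U = SuzukiRankOne.qZ ↥((Subgroup.map (permImg G (G ⧸ Subgroup.normalizer (Q : Set G))) (Subgroup.closure (Zs Q)))) (((1 : G) : G ⧸ Subgroup.normalizer (Q : Set G)) : (G ⧸ Subgroup.normalizer (Q : Set G))) ^ 3 ∧ SuzukiRankOne.Rsq (((1 : G) : G ⧸ Subgroup.normalizer (Q : Set G)) : (G ⧸ Subgroup.normalizer (Q : Set G))) t U ∧
      ∀ x ∈ U, x * x * (x * x) = 1))
  (hB : ∀ v ∈ U, (v : (permGrp G (G ⧸ Subgroup.normalizer (Q : Set G)))) ∈ (Subgroup.map (permImg G (G ⧸ Subgroup.normalizer (Q : Set G))) Q) → v ∈ invGroup hS h2)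
  (hZQ : ∀ v ∈ invGroup hS h2, (v : (permGrp G (G ⧸ Subgroup.normalizer (Q : Set G)))) ∈ (Subgroup.map (permImg G (G ⧸ Subgroup.normalizer (Q : Set G))) Q))
include hL hsq hne hshape hB hZQ

/-- The image of the Sylow subgroup of `Q` lies in the image of the members. -/
theorem R_image {r : G} (hrQ : r ∈ Q) (hrT : r ∈ (T : Subgroup G)) : ff r ∈ NB := by
  haveI : Fact (Nat.Prime 2) := ⟨Nat.prime_two⟩
  haveI := NN_normal (crit h hnn)
  haveI : (NB).Normal := Subgroup.Normal.map inferInstance _ ff_surj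
  suffices H : ∀ k : ℕ, ∀ r ∈ Q, r ∈ (T : Subgroup G) → r ^ 2 ^ k = 1 → ff r ∈ NB by
    obtain ⟨k, hk⟩ := T.2 ⟨r, hrT⟩
    exact H k r hrQ hrT (congrArg Subtype.val hk)
  intro k
  induction k with
  | zero => intro r _ _ hk; rw [pow_zero, pow_one] at hk; rw [hk, map_one]; exact one_mem _
  | succ k ih =>
    intro r hrQ hrT hk
    have hs2 : ff r * ff r ∈ NB := by
      rw [← map_mul]
      exact ih _ (mul_mem hrQ hrQ) (mul_mem hrT hrT) (by rw [← pow_two, ← pow_mul, ← pow_succ']; exact hk)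
    set s := ff r with hs
    have hsa : s • pt0 = pt0 := ff_fix.mpr (hTM hrT)
    have htne := RankOne.ta_ne hS
    have hsb : s • (t • (pt0 : Pts)) ≠ pt0 := fun e => htne (smul_left_cancel s (e.trans hsa.symm))
    obtain ⟨v, hv, hve⟩ := RankOne.exists_Q_ta hS hsb
    have hve' : (v : GP) • t • (pt0 : Pts) = s • t • pt0 := hve
    have hva : (v : GP) • (pt0 : Pts) = pt0 := RankOne.mem_Q_a hS hv
    set d := (v : GP)⁻¹ * s with hd
    have hda : d • (pt0 : Pts) = pt0 := by rw [hd, mul_smul, hsa, inv_smul_eq_iff, hva]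
    have hdb : d • t • (pt0 : Pts) = t • pt0 := by rw [hd, mul_smul, inv_smul_eq_iff, hve']
    obtain ⟨y, hy, hye⟩ := U_le_image h hnn hTM hS hU2 hv
    obtain ⟨j, hj⟩ := T.2 ⟨y⁻¹ * r, mul_mem (inv_mem hy.1) hrT⟩
    have hdj : d ^ 2 ^ j = 1 := by
      have : d = ff (y⁻¹ * r) := by rw [map_mul, map_inv, hye]
      rw [this, ← map_pow, show (y⁻¹ * r) ^ 2 ^ j = 1 from congrArg Subtype.val hj, map_one]
    have hdd : d * d ∈ NB := by
      rw [show d * d = (v : GP)⁻¹ * (s * (v : GP)⁻¹ * s⁻¹) * (s * s) by rw [hd]; group]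
      exact mul_mem (mul_mem (inv_mem v.2) ((inferInstance : (NB).Normal).conj_mem _ (inv_mem v.2) s)) hs2
    have hd2 : d * d = 1 := by
      have hD : (⟨d * d, hdd⟩ : ↥(NB)) ∈ RankOne.D (pt0 : Pts) t := by
        refine (RankOne.mem_D hS).mpr ⟨?_, ?_⟩
        · show (d * d) • (pt0 : Pts) = pt0
          rw [mul_smul, hda, hda]
        · show (d * d) • t • (pt0 : Pts) = t • pt0
          rw [mul_smul, hdb, hdb]
      have ho : Odd (orderOf (d * d)) := by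
        rw [show d * d = ((⟨d * d, hdd⟩ : ↥(NB)) : GP) from rfl, Subgroup.orderOf_coe]
        exact hS.odd_card.of_dvd_nat (Subgroup.orderOf_dvd_natCard _ hD)
      have h2' : orderOf (d * d) ∣ 2 ^ j := orderOf_dvd_of_pow_eq_one (by
        rw [← pow_two, ← pow_mul, mul_comm, pow_mul, hdj, one_pow])
      exact orderOf_eq_one_iff.mp
        (Nat.eq_one_of_dvd_coprimes ((Nat.coprime_two_right.mpr ho).pow_right j) dvd_rfl h2')
    have hdi : d⁻¹ = d := inv_eq_of_mul_eq_one_right hd2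
    let σ : ↥(NB) ≃* ↥(NB) := MulAut.conjNormal d
    have hσ : ∀ e : ↥(NB), (σ e : GP) = d * e * d⁻¹ := fun e => MulAut.conjNormal_apply d e
    have hσt : (σ t : GP) • (pt0 : Pts) = t • pt0 := by
      rw [hσ, hdi, mul_smul, mul_smul, hda]
      exact hdb
    have hmod : ∀ w ∈ U, σ w * w⁻¹ ∈ invGroup hS h2 := by
      intro w hw
      obtain ⟨w', hw', hwe⟩ := conj_U h hnn hS hU2 (hTM hrT) hw
      obtain ⟨m, hm, hme⟩ := exists_lift h hnn hS (RankOne.mem_Q_a hS hw) |>.imp fun _ h => h.2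
      have h1 : w' * w⁻¹ ∈ invGroup hS h2 := hB _ (mul_mem hw' (inv_mem hw)) ⟨r * (m * r⁻¹ * m⁻¹),
        mul_mem hrQ (conj_mem_Q hm (inv_mem hrQ)), by
          rw [Subgroup.coe_mul, Subgroup.coe_inv, hwe, map_mul, map_mul, map_mul, map_inv, map_inv, hme]; group⟩
      have e : σ w * w⁻¹ = v⁻¹ * (w' * w⁻¹) * (w * v * w⁻¹) := Subtype.ext (by
        simp only [Subgroup.coe_mul, Subgroup.coe_inv, hσ, hwe, hd, hs]; group)
      rw [e]
      have h2c : v⁻¹ * (w * v * w⁻¹) ∈ invGroup hS h2 := by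
        rw [show v⁻¹ * (w * v * w⁻¹) = (v⁻¹ * v⁻¹) * ((v * w) * (v * w)) * (w⁻¹ * w⁻¹) by group]
        exact mul_mem (mul_mem (hsq _ (inv_mem hv)) (hsq _ (mul_mem hv hw))) (hsq _ (inv_mem hw))
      rw [show v⁻¹ * (w' * w⁻¹) * (w * v * w⁻¹) = (w' * w⁻¹) * (v⁻¹ * (w * v * w⁻¹)) by
        rw [← inv_comm hS h2 h1 (inv_mem hv)]; group]
      exact mul_mem h1 h2c
    have hfixU := outer_trivial hS h2 hL hsq hne hshape σ (fun e he => by
        obtain ⟨hea, heb⟩ := (RankOne.mem_D hS).mp he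
        refine (RankOne.mem_D hS).mpr ⟨?_, ?_⟩
        · show (σ e : GP) • (pt0 : Pts) = pt0
          rw [hσ, hdi, mul_smul, mul_smul, hda, show (e : GP) • (pt0 : Pts) = pt0 from hea, hda]
        · show (σ e : GP) • t • (pt0 : Pts) = t • pt0
          rw [hσ, hdi, mul_smul, mul_smul, hdb, show (e : GP) • t • (pt0 : Pts) = t • pt0 from heb, hdb])
      hσt (by
        show (σ t : GP) • t • (pt0 : Pts) = pt0
        rw [hσ, hdi, mul_smul, mul_smul, hdb, show (t : GP) • t • (pt0 : Pts) = pt0 from RankOne.smul_smul_t hS _,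
          hda])
      (Subtype.ext (by rw [hσ, hσ, hdi, show d * (d * (t : GP) * d) * d = (d * d) * (t : GP) * (d * d) by group, hd2,
        one_mul, mul_one]))
      hmod
    have hd1 : d = 1 := by
      refine eq_of_smul_eq_smul (α := Pts) fun c => ?_
      rw [one_smul]
      by_cases hc : c = pt0
      · rw [hc, hda]
      obtain ⟨w, hw, rfl⟩ := RankOne.exists_Q_ta hS hc
      have e : d * (w : GP) * d⁻¹ = w := by rw [← hσ, hfixU w hw]
      show d • ((w : GP) • t • (pt0 : Pts)) = _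
      rw [← mul_smul, mul_inv_eq_iff_eq_mul.mp e, mul_smul, hdb]
      rfl
    rw [show s = v from (inv_mul_eq_one.mp (hd ▸ hd1)).symm]
    exact v.2

/-- Case B: every element of the Sylow subgroup of the closure acts as an element of `U`. -/
theorem image_B {y : G} (hy : y ∈ TK) : ∃ v ∈ U, (v : GP) = ff y := by
  haveI : Fact (Nat.Prime 2) := ⟨Nat.prime_two⟩
  have hUn : ∀ g ∈ MM, ff g ∈ Subgroup.normalizer ((U.map (NB).subtype : Subgroup GP) : Set GP) := fun g hg =>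
    Subgroup.mem_normalizer_fintype fun z hz => by
      obtain ⟨v, hv, rfl⟩ := hz
      obtain ⟨w, hw, e⟩ := conj_U h hnn hS hU2 hg hv
      exact ⟨w, hw, e⟩
  have hQn : QB ≤ Subgroup.normalizer ((U.map (NB).subtype : Subgroup GP) : Set GP) := by
    rintro _ ⟨q, hq, rfl⟩
    exact hUn q (le_normalizer' hq)
  obtain ⟨k, hk⟩ := T.2 ⟨y, hy.1⟩
  have hk' : y ^ 2 ^ k = 1 := congrArg Subtype.val hk
  have hmem := image_mem h hnn hS (J := U.map (NB).subtype ⊔ QB) le_sup_left le_sup_right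
    (fun g hg => by
      refine Subgroup.mem_normalizer_fintype fun z hz => ?_
      rw [SetLike.mem_coe] at hz ⊢
      rw [← SetLike.mem_coe, Subgroup.coe_mul_of_right_le_normalizer_left _ _ hQn] at hz ⊢
      obtain ⟨v, hv, q, hq, rfl⟩ := hz
      refine ⟨ff g * v * (ff g)⁻¹, (Subgroup.mem_normalizer_iff.mp (hUn g hg) v).mp hv, ff g * q * (ff g)⁻¹, ?_,
        by group⟩
      obtain ⟨q', hq', rfl⟩ := hq
      exact ⟨g * q' * g⁻¹, conj_mem_Q hg hq', by simp⟩)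
    hy.2 (hTM hy.1) hk'
  rw [← SetLike.mem_coe, Subgroup.coe_mul_of_right_le_normalizer_left _ _ hQn] at hmem
  obtain ⟨_, ⟨v, hv, rfl⟩, _, ⟨q, hq, rfl⟩, e⟩ := hmem
  obtain ⟨y', hy', hye⟩ := U_le_image h hnn hTM hS hU2 hv
  have hq' : ff (y'⁻¹ * y) = ff q := by
    rw [map_mul, map_inv, hye, ← e]; exact inv_mul_cancel_left _ _
  obtain ⟨r, hrT, hrQ, hre⟩ := exists_R_lift h hnn hTM (mul_mem (inv_mem hy'.1) hy.1) hq hq'
  have hr := R_image h hnn hTM hS hU2 h2 hL hsq hne hshape hB hZQ hrQ hrT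
  rw [hre, hq'] at hr
  refine ⟨⟨ff y, ?_⟩, mem_U h hnn hS _ (ff_fix.mpr (hTM hy.1)) (k := k) (by rw [← map_pow, hk', map_one]), rfl⟩
  rw [← e]
  exact mul_mem v.2 hr

/-- Case B: the kernel of the action meets the Sylow subgroup of the closure trivially. -/
theorem core_B {w : G} (hw : w ∈ TK) (hwc : w ∈ (MM).normalCore) : w = 1 := by
  classical
  haveI : Fact (Nat.Prime 2) := ⟨Nat.prime_two⟩
  by_contra hw1
  let A : Subgroup ↥(TK) := (MM).normalCore.subgroupOf (TK)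
  have hAc : ∀ a ∈ A, ∀ y : ↥(TK), a * y = y * a := fun a ha y => core_central h hnn hTM ha y
  -- a maximal subgroup of the kernel part containing its squares
  have hA1 : A ≠ ⊥ := fun e => hw1 (by
    have : (⟨w, hw⟩ : ↥(TK)) ∈ A := hwc
    rw [e, Subgroup.mem_bot] at this
    exact congrArg Subtype.val this)
  let sq : A →* A :=
    { toFun := fun a => a * a
      map_one' := mul_one 1
      map_mul' := fun a b => by
        rw [show a * b * (a * b) = a * (b * a) * b by group,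
          show b * a = a * b from Subtype.ext (hAc b b.2 a)]; group }
  obtain ⟨W', hW', hW'sq⟩ : ∃ W' : Subgroup A, IsCoatom W' ∧ sq.range ≤ W' := by
    refine (eq_top_or_exists_le_coatom sq.range).resolve_left fun e => ?_
    obtain ⟨a, ha, ha1⟩ := (Subgroup.bot_or_exists_ne_one A).resolve_left hA1
    obtain ⟨k, hk⟩ := TK_two (T := T) a
    obtain ⟨n, hn⟩ := exists_pow_isInv (x := (⟨a, ha⟩ : A)) (k := k) (Subtype.ext hk)
      (fun e => ha1 (congrArg Subtype.val e))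
    have hinj : Function.Injective sq := Finite.injective_iff_surjective.mpr (MonoidHom.range_eq_top.mp e)
    exact hn.1 (hinj (hn.2.trans (mul_one 1).symm))
  obtain ⟨w₀, -, hw₀⟩ := SetLike.exists_of_lt (lt_top_iff_ne_top.mpr hW'.1)
  haveI : W'.Normal := ⟨fun a ha b => by
    rwa [show b * a * b⁻¹ = a from mul_inv_eq_iff_eq_mul.mpr (Subtype.ext (hAc b b.2 a))]⟩
  have hcover : ∀ b : A, b ∈ W' ∨ b * w₀ ∈ W' := by
    intro b
    have htop : W' ⊔ Subgroup.zpowers w₀ = ⊤ := hW'.2 _ (lt_of_le_of_ne le_sup_left fun e =>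
      hw₀ (e ▸ Subgroup.mem_sup_right (Subgroup.mem_zpowers w₀)))
    obtain ⟨c, hc, _, ⟨n, rfl⟩, rfl⟩ := Subgroup.mem_sup_of_normal_left.mp (htop ▸ Subgroup.mem_top b)
    have h2w : w₀ * w₀ ∈ W' := hW'sq ⟨w₀, rfl⟩
    rcases Int.even_or_odd' n with ⟨m, rfl | rfl⟩
    · left
      show c * w₀ ^ (2 * m) ∈ W'
      rw [zpow_mul, zpow_two]
      exact mul_mem hc (zpow_mem h2w m)
    · right
      show c * w₀ ^ (2 * m + 1) * w₀ ∈ W'
      rw [mul_assoc, ← zpow_add_one, show 2 * m + 1 + 1 = 2 * (m + 1) by ring, zpow_mul, zpow_two]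
      exact mul_mem hc (zpow_mem h2w _)
  -- the quotient
  let Rs : Subgroup ↥(TK) := Q.subgroupOf (TK)
  haveI : Rs.Normal := ⟨fun y hy g => (conj_mem_Q (hTM g.2.1) hy : (g : G) * y * (g : G)⁻¹ ∈ Q)⟩
  let W'' : Subgroup ↥(TK) := W'.map A.subtype
  have hW''c : ∀ a ∈ W'', ∀ y : ↥(TK), a * y = y * a := by
    rintro _ ⟨a, -, rfl⟩ y
    exact hAc a a.2 y
  haveI : W''.Normal := ⟨fun a ha y => by rwa [← hW''c a ha y, mul_inv_cancel_right]⟩
  let H1 : Subgroup ↥(TK) := Rs ⊔ W''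
  let z : ↥(TK) ⧸ H1 := ((w₀ : ↥(TK)) : ↥(TK) ⧸ H1)
  have hz1 : z ≠ 1 := by
    intro e
    obtain ⟨r, hr, a, ⟨a', ha', rfl⟩, e'⟩ :=
      Subgroup.mem_sup_of_normal_left.mp ((QuotientGroup.eq_one_iff _).mp e)
    have hrA : r ∈ A := by
      rw [eq_mul_inv_of_mul_eq e']
      exact mul_mem w₀.2 (inv_mem a'.2)
    obtain ⟨k, hk⟩ := TK_two (T := T) r
    have hr1 : r = 1 := Subtype.ext (eq_one_of_mem_core h hnn hr (k := k) (congrArg Subtype.val hk) hrA)
    rw [hr1, one_mul] at e'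
    exact hw₀ ((Subtype.ext e' : a' = w₀) ▸ ha')
  have hwmk : ∀ a : A, ((a : ↥(TK)) : ↥(TK) ⧸ H1) = 1 ∨ ((a : ↥(TK)) : ↥(TK) ⧸ H1) = z⁻¹ := by
    intro a
    rcases hcover a with ha | ha
    · exact Or.inl ((QuotientGroup.eq_one_iff _).mpr (Subgroup.mem_sup_right ⟨a, ha, rfl⟩))
    · refine Or.inr (eq_inv_of_mul_eq_one_left ?_)
      rw [← QuotientGroup.mk_mul]
      exact (QuotientGroup.eq_one_iff _).mpr (Subgroup.mem_sup_right ⟨a * w₀, ha, rfl⟩)
  have hz2 : z * z = 1 := by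
    rcases hwmk w₀ with e | e
    · exact absurd e hz1
    · nth_rewrite 1 [show z = z⁻¹ from e]; rw [inv_mul_cancel]
  have hzi : z⁻¹ = z := inv_eq_of_mul_eq_one_right hz2
  have hzc : ∀ p : ↥(TK) ⧸ H1, z * p = p * z := fun p => by
    induction p using QuotientGroup.induction_on with
    | _ y => exact congrArg _ (hAc _ w₀.2 y)
  have hfib : ∀ (y : ↥(TK)) (v : ↥(NB)), v ∈ invGroup hS h2 → (v : GP) = ff (y : G) →
      (y : ↥(TK) ⧸ H1) = 1 ∨ (y : ↥(TK) ⧸ H1) = z := by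
    intro y v hv hve
    obtain ⟨q, hq, e⟩ := hZQ v hv
    obtain ⟨r, hrT, hrQ, hre⟩ := exists_R_lift h hnn hTM y.2.1 hq (hve.symm.trans e.symm)
    let r' : ↥(TK) := ⟨r, hrT, Subgroup.subset_normalClosure hrQ⟩
    have ha : r'⁻¹ * y ∈ A := ff_eq_one.mp (by
      show ff (r⁻¹ * y) = 1
      rw [map_mul, map_inv, hre, inv_mul_cancel])
    have e' : (y : ↥(TK) ⧸ H1) = ((r'⁻¹ * y : ↥(TK)) : ↥(TK) ⧸ H1) :=
      QuotientGroup.eq.mpr (by
        rw [show y⁻¹ * (r'⁻¹ * y) = y⁻¹ * r'⁻¹ * y⁻¹⁻¹ by group]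
        exact Subgroup.mem_sup_left ((inferInstance : Rs.Normal).conj_mem _ (inv_mem hrQ) y⁻¹))
    rw [e']
    rcases hwmk ⟨_, ha⟩ with e'' | e''
    · exact Or.inl e''
    · exact Or.inr (e''.trans hzi)
  have hsqP : ∀ p : ↥(TK) ⧸ H1, p * p = 1 ∨ p * p = z := fun p => by
    induction p using QuotientGroup.induction_on with
    | _ y =>
      obtain ⟨v, hv, e⟩ := image_B h hnn hTM hS hU2 h2 hL hsq hne hshape hB hZQ y.2
      rw [← QuotientGroup.mk_mul]
      refine hfib (y * y) (v * v) (hsq v hv) ?_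
      rw [Subgroup.coe_mul, e, ← map_mul]; rfl
  have hH1img : ∀ y ∈ H1, ∀ v : ↥(NB), (v : GP) = ff ((y : ↥(TK)) : G) → v ∈ U → v ∈ invGroup hS h2 := by
    intro y hy v hve hv
    obtain ⟨r, hr, a, ⟨a', -, rfl⟩, rfl⟩ := Subgroup.mem_sup_of_normal_left.mp hy
    refine hB v hv ⟨(r : G), hr, ?_⟩
    rw [hve, Subgroup.coe_mul, map_mul,
      show ff ((A.subtype a' : ↥(TK)) : G) = 1 from ff_eq_one.mpr a'.2, mul_one]
  -- the automorphisms
  let ΔB : Subgroup GP := Δ.map (NB).subtype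
  let Γ : Subgroup G := Subgroup.normalizer ((TK : Subgroup G) : Set G) ⊓ MM ⊓ KK ⊓ ΔB.comap ff
  have hconj : ∀ (g : Γ) (y : ↥(TK)), (g : G) * y * (g : G)⁻¹ ∈ TK := fun g y =>
    (Subgroup.mem_normalizer_iff.mp g.2.1.1.1 y).mp y.2
  have hconjA : ∀ (g : Γ) (a : ↥(TK)), a ∈ A → (g : G) * a * (g : G)⁻¹ = a := fun g a ha =>
    comm_core_sylow h hnn g.2.1.2 ha (hconj g a).1 a.2.1
  let cj : Γ → MulAut ↥(TK) := fun g =>
    { toFun := fun y => ⟨(g : G) * y * (g : G)⁻¹, hconj g y⟩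
      invFun := fun y => ⟨((g⁻¹ : Γ) : G) * y * ((g⁻¹ : Γ) : G)⁻¹, hconj g⁻¹ y⟩
      left_inv := fun y => Subtype.ext (by push_cast; group)
      right_inv := fun y => Subtype.ext (by push_cast; group)
      map_mul' := fun x y => Subtype.ext (by push_cast; group) }
  have hH1inv : ∀ (g : Γ), ∀ y ∈ H1, cj g y ∈ H1 := by
    intro g y hy
    obtain ⟨r, hr, a, ⟨a', ha', rfl⟩, rfl⟩ := Subgroup.mem_sup_of_normal_left.mp hy
    rw [map_mul]
    refine mul_mem (Subgroup.mem_sup_left (conj_mem_Q g.2.1.1.2 hr)) (Subgroup.mem_sup_right ⟨a', ha', ?_⟩)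
    exact Subtype.ext (hconjA g a' a'.2).symm
  have hmap : ∀ g : Γ, H1.map (cj g).toMonoidHom = H1 := fun g => by
    refine le_antisymm ?_ fun y hy => ⟨cj g⁻¹ y, hH1inv g⁻¹ y hy, Subtype.ext ?_⟩
    · rintro _ ⟨y, hy, rfl⟩; exact hH1inv g y hy
    · show (g : G) * (((g⁻¹ : Γ) : G) * y * ((g⁻¹ : Γ) : G)⁻¹) * (g : G)⁻¹ = y
      push_cast; group
  let ρ : Γ →* MulAut (↥(TK) ⧸ H1) :=
    { toFun := fun g => QuotientGroup.congr H1 H1 (cj g) (hmap g)
      map_one' := MulEquiv.ext fun p => by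
        induction p using QuotientGroup.induction_on with
        | _ y =>
          show ((cj 1 y : ↥(TK)) : ↥(TK) ⧸ H1) = y
          exact congrArg _ (Subtype.ext (by show (1 : G) * y * (1 : G)⁻¹ = y; group))
      map_mul' := fun g g' => MulEquiv.ext fun p => by
        induction p using QuotientGroup.induction_on with
        | _ y =>
          show ((cj (g * g') y : ↥(TK)) : ↥(TK) ⧸ H1) = (cj g (cj g' y) : ↥(TK) ⧸ H1)
          exact congrArg _ (Subtype.ext (by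
            show ((g * g' : Γ) : G) * y * ((g * g' : Γ) : G)⁻¹ = (g : G) * ((g' : G) * y * (g' : G)⁻¹) * (g : G)⁻¹
            push_cast; group)) }
  have hρ : ∀ (g : Γ) (y : ↥(TK)), ρ g (y : ↥(TK) ⧸ H1) = (cj g y : ↥(TK) ⧸ H1) := fun g y =>
    rfl
  let π : Γ →* GP := (ff).comp Γ.subtype
  have hπrange : π.range = ΔB := by
    refine le_antisymm ?_ ?_
    · rintro _ ⟨g, rfl⟩; exact g.2.2
    rintro _ ⟨δ, hδ, rfl⟩
    obtain ⟨n, hn, hnM, hne'⟩ := exists_lift h hnn hS ((RankOne.mem_D hS).mp (hL.le hδ)).1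
    let U₁ : Subgroup G := KK ⊓ (U.map (NB).subtype).comap ff
    have hTU : TK ≤ U₁ := fun y hy => ⟨hy.2, by
      obtain ⟨v, hv, e⟩ := image_B h hnn hTM hS hU2 h2 hL hsq hne hshape hB hZQ hy
      exact ⟨v, hv, e⟩⟩
    have hodd : Odd ((TK).relIndex U₁) :=
      (CfsgLib.AfterFT.PairClosed.odd_index_inf_normal T KK).of_dvd_nat
        (Dvd.intro _ (Subgroup.relIndex_mul_relIndex _ _ _ hTU inf_le_left))
    let P : Sylow 2 U₁ := (IsPGroup.comap_subtype (K := U₁) (TK_two (T := T))).toSylow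
      fun hd => Nat.not_even_iff_odd.mpr hodd (even_iff_two_dvd.mpr hd)
    let TKn : Subgroup G := (TK).map (MulAut.conj n).toMonoidHom
    have hTn : TKn ≤ U₁ := by
      rintro _ ⟨y, hy, rfl⟩
      refine ⟨Subgroup.normalClosure_normal.conj_mem _ hy.2 n, ?_⟩
      obtain ⟨v, hv, e⟩ := image_B h hnn hTM hS hU2 h2 hL hsq hne hshape hB hZQ hy
      obtain ⟨v', hv', e'⟩ := conj_U h hnn hS hU2 hnM hv
      exact ⟨v', hv', by rw [Subgroup.coe_subtype, e', e]; simp [MulAut.conj_apply]⟩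
    obtain ⟨R', hR'⟩ := ((TK_two (T := T)).map (MulAut.conj n).toMonoidHom |>.comap_subtype (K := U₁)).exists_le_sylow
    obtain ⟨y₁, hy₁⟩ := MulAction.exists_smul_eq U₁ P R'
    obtain ⟨y, hy, hye⟩ : ∃ y ∈ TK, ff y = ff (y₁ : G) := by
      obtain ⟨v, hv, e⟩ := y₁.2.2
      obtain ⟨y, hy, hye⟩ := U_le_image h hnn hTM hS hU2 hv
      exact ⟨y, hy, hye.trans e⟩
    set wv := (y₁ : G) * y⁻¹ with hwv
    have hwW : wv ∈ (MM).normalCore := ff_eq_one.mp (by rw [hwv, map_mul, map_inv, hye, mul_inv_cancel])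
    have hwK : wv ∈ KK := mul_mem y₁.2.1 (inv_mem hy.2)
    have hgn : wv⁻¹ * n ∈ Subgroup.normalizer ((TK : Subgroup G) : Set G) := by
      refine Subgroup.mem_normalizer_fintype fun v hv => ?_
      rw [SetLike.mem_coe] at hv ⊢
      have h1 : (⟨n * v * n⁻¹, hTn ⟨v, hv, by simp⟩⟩ : U₁) ∈ (R' : Subgroup U₁) := hR' ⟨v, hv, by simp⟩
      rw [← hy₁, Sylow.coe_subgroup_smul, Subgroup.mem_pointwise_smul_iff_inv_smul_mem] at h1
      have h3 : (y₁ : G)⁻¹ * (n * v * n⁻¹) * y₁ ∈ TK := by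
        simpa [P, Subgroup.mem_subgroupOf, MulAut.smul_def, mul_assoc] using h1
      have h4 := Subgroup.mul_mem _ (Subgroup.mul_mem _ hy h3) (Subgroup.inv_mem _ hy)
      rwa [show y * ((y₁ : G)⁻¹ * (n * v * n⁻¹) * y₁) * y⁻¹ = wv⁻¹ * n * v * (wv⁻¹ * n)⁻¹ by
        rw [hwv]; group] at h4
    have hf : ff (wv⁻¹ * n) = (δ : GP) := by
      rw [map_mul, map_inv, ff_eq_one.mpr hwW, inv_one, one_mul, hne']
    refine ⟨⟨wv⁻¹ * n, ⟨⟨hgn, Subgroup.mul_mem _ (Subgroup.inv_mem _ ((MM).normalCore_le hwW)) hnM⟩,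
      Subgroup.mul_mem _ (Subgroup.inv_mem _ hwK) (nn_le h hnn hn)⟩, ⟨δ, hδ, hf.symm⟩⟩, hf⟩
  obtain ⟨x₀, hx₀, hx₀1⟩ := hne
  obtain ⟨y₀, hy₀, hy₀e⟩ := U_le_image h hnn hTM hS hU2 hx₀
  have hmove : ∀ (g : Γ) (y : ↥(TK)) (v : ↥(NB)), v ∈ U → v ∉ invGroup hS h2 → (v : GP) = ff (y : G) →
      ρ g y = (y : ↥(TK) ⧸ H1) → π g = 1 := by
    intro g y v hv hvZ hve e
    obtain ⟨δ, hδ, hδe⟩ := g.2.2
    rw [hρ, QuotientGroup.eq] at e
    have e' : cj g y * y⁻¹ ∈ H1 := by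
      have := (inferInstance : H1.Normal).conj_mem _ (inv_mem e) (cj g y * y⁻¹ * (cj g y * y⁻¹)⁻¹ * y)
      simpa [mul_assoc] using this
    have hv' : δ * v * δ⁻¹ * v⁻¹ ∈ U :=
      mul_mem (RankOne.conj_Q hS ((RankOne.mem_D hS).mp (hL.le hδ)).1 hv) (inv_mem hv)
    have := hL.free δ hδ v hv hvZ (hH1img _ e' _ (by
      show ((δ : GP) * v * (δ : GP)⁻¹ * (v : GP)⁻¹) = ff ((g : G) * y * (g : G)⁻¹ * (y : G)⁻¹)
      rw [map_mul, map_mul, map_mul, map_inv, map_inv, hve, show (δ : GP) = ff (g : G) from hδe]) hv')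
    show ff (g : G) = 1
    rw [← hδe, this]; rfl
  have hker : ρ.ker = π.ker := by
    refine le_antisymm (fun g hg => ?_) fun g hg => ?_
    · refine hmove g ⟨y₀, hy₀⟩ x₀ hx₀ (fun hI => hx₀1 hI.2) hy₀e.symm ?_
      rw [show ρ g = 1 from hg]; rfl
    · refine MulEquiv.ext fun p => ?_
      induction p using QuotientGroup.induction_on with
      | _ y =>
        rw [hρ, MulAut.one_apply]
        refine congrArg _ (Subtype.ext ?_)
        show (g : G) * y * (g : G)⁻¹ = y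
        rw [core_comm h hnn hTM y.2 g.2.1.2 (ff_eq_one.mp hg) (hconj g y).1, mul_inv_cancel_right]
  have hm : Nat.card ρ.range = Nat.card Δ := by
    rw [← Subgroup.index_ker, hker, Subgroup.index_ker, hπrange,
      Subgroup.card_map_of_injective (NB).subtype_injective]
  have hfree : ∀ F ∈ ρ.range, ∀ p : ↥(TK) ⧸ H1, p ≠ 1 → p ≠ z → F p = p → F = 1 := by
    rintro _ ⟨g, rfl⟩ p hp1 hpz e
    induction p using QuotientGroup.induction_on with
    | _ y =>
      obtain ⟨v, hv, hve⟩ := image_B h hnn hTM hS hU2 h2 hL hsq ⟨x₀, hx₀, hx₀1⟩ hshape hB hZQ y.2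
      have hg : g ∈ π.ker := hmove g y v hv (fun hI => (hfib y v hI hve).elim hp1 hpz) hve e
      rw [← hker] at hg
      exact hg
  -- the bound
  have hbound : Nat.card (↥(TK) ⧸ H1) ≤ 2 * (3 * Nat.card Δ + 1) := by
    let φ : ↥(TK) →* GP := (ff).comp (TK).subtype
    have hrange : φ.range ≤ U.map (NB).subtype := by
      rintro _ ⟨y, rfl⟩
      obtain ⟨v, hv, e⟩ := image_B h hnn hTM hS hU2 h2 hL hsq ⟨x₀, hx₀, hx₀1⟩ hshape hB hZQ y.2
      exact ⟨v, hv, e⟩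
    have hkerA : φ.ker = A := by
      ext y; rw [MonoidHom.mem_ker]; exact ff_eq_one
    have hAW : Nat.card A ≤ 2 * Nat.card W' := by
      have h1 : Function.Surjective fun p : Bool × W' =>
          if p.1 then (p.2 : A) * w₀⁻¹ else (p.2 : A) := fun b => by
        rcases hcover b with hb | hb
        · exact ⟨(false, ⟨b, hb⟩), rfl⟩
        · exact ⟨(true, ⟨b * w₀, hb⟩), by simp [mul_assoc]⟩
      refine (Nat.card_le_card_of_surjective _ h1).trans ?_
      rw [Nat.card_prod, Nat.card_eq_fintype_card (α := Bool)]; rfl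
    let φ1 : H1 →* GP := φ.comp H1.subtype
    have hker1 : Nat.card W' ≤ Nat.card φ1.ker :=
      Nat.card_le_card_of_injective (fun a : W' => (⟨⟨((a : A) : ↥(TK)), Subgroup.mem_sup_right ⟨a, a.2, rfl⟩⟩,
        ff_eq_one.mpr (a : A).2⟩ : φ1.ker)) fun a b e =>
          Subtype.ext (Subtype.ext (congrArg (fun c : φ1.ker => ((c : H1) : ↥(TK))) e))
    have hrange1 : (invGroup hS h2).map (NB).subtype ≤ φ1.range := by
      rintro _ ⟨v, hv, rfl⟩
      obtain ⟨y, hy, hye⟩ := U_le_image h hnn hTM hS hU2 (invGroup_le hS h2 hv)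
      obtain ⟨q, hq, e⟩ := hZQ v hv
      obtain ⟨r, hrT, hrQ, hre⟩ := exists_R_lift h hnn hTM hy.1 hq (hye.trans e.symm)
      exact ⟨⟨⟨r, hrT, Subgroup.subset_normalClosure hrQ⟩, Subgroup.mem_sup_left hrQ⟩, hre.trans hye⟩
    have c1 : Nat.card ↥(TK) = Nat.card A * Nat.card φ.range := by
      rw [← hkerA, ← Subgroup.index_ker, Subgroup.card_mul_index]
    have c2 : Nat.card H1 = Nat.card φ1.ker * Nat.card φ1.range := by
      rw [← Subgroup.index_ker, Subgroup.card_mul_index]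
    have c3 : Nat.card φ.range ≤ Nat.card U :=
      (Subgroup.card_le_of_le hrange).trans_eq (Subgroup.card_map_of_injective (NB).subtype_injective)
    have c4 : SuzukiRankOne.qZ ↥(NB) (pt0 : Pts) ≤ Nat.card φ1.range := by
      rw [← SuzukiRankOne.card_invGroup hS h2, ← Subgroup.card_map_of_injective (NB).subtype_injective]
      exact Subgroup.card_le_of_le hrange1
    have c5 : Nat.card H1 * Nat.card (↥(TK) ⧸ H1) = Nat.card ↥(TK) := Subgroup.card_mul_index H1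
    have hb := hL.bound
    have hpos : 0 < Nat.card W' * SuzukiRankOne.qZ ↥(NB) (pt0 : Pts) :=
      Nat.mul_pos Nat.card_pos (by have := SuzukiRankOne.three_le_qZ hS h2; omega)
    refine Nat.le_of_mul_le_mul_left ?_ hpos
    calc Nat.card W' * SuzukiRankOne.qZ ↥(NB) (pt0 : Pts) * Nat.card (↥(TK) ⧸ H1)
        ≤ Nat.card H1 * Nat.card (↥(TK) ⧸ H1) := Nat.mul_le_mul_right _ (c2 ▸ Nat.mul_le_mul hker1 c4)
      _ ≤ 2 * Nat.card W' * (SuzukiRankOne.qZ ↥(NB) (pt0 : Pts) * (3 * Nat.card Δ + 1)) := by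
          rw [c5, c1]; exact Nat.mul_le_mul hAW (c3.trans hb)
      _ = _ := by ring
  have hexp := squares_trivial hz1 hz2 hzc hsqP ρ.range
    (by rintro _ ⟨g, rfl⟩; exact (hρ g _).trans (congrArg _ (Subtype.ext (hconjA g _ w₀.2))))
    hfree (hm.symm ▸ hL.five) (hm.symm ▸ hS.odd_card.of_dvd_nat (Subgroup.card_dvd_of_le hL.le))
    (hm.symm ▸ hbound)
  refine hz1 ((QuotientGroup.eq_one_iff _).mpr (core_le_of_comm h hnn hTM hS hU2 H1 (fun a b => ?_)
    (fun y hy => Subgroup.mem_sup_left hy) (x := (w₀ : ↥(TK))) w₀.2))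
  refine (QuotientGroup.eq_one_iff _).mp ?_
  have hi : ∀ p : ↥(TK) ⧸ H1, p⁻¹ = p := fun p => inv_eq_of_mul_eq_one_right (hexp p)
  show ((a : ↥(TK) ⧸ H1) * b * (a : ↥(TK) ⧸ H1)⁻¹ * (b : ↥(TK) ⧸ H1)⁻¹) = 1
  rw [hi, hi, mul_assoc]
  exact hexp _

end CaseB

end CfsgLib.Bender.Tight
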