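import Cfsg.Agent.Lib.SuzukiRankOne.Unitary

/-!
The normaliser of a Sylow 2-subgroup of `PSU₃(q)`, `q` even: its commutators are unipotent and it has at least a
third of the order of the Borel subgroup of `SU₃(q)`.
-/

set_option autoImplicit false
set_option linter.unusedSectionVars false
set_option linter.style.haveILetI false

namespace CfsgLib.Bender.Tight

open CfsgLib.PSUBorel CfsgLib.PSU3Min
open scoped Pointwise

universe u

variable {F : Type} [Field F] [Fintype F] (c : Conj F) [CharP F 2]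

local notation "S3" => SUs c 3
local notation "PU" => SUs c 3 ⧸ Subgroup.center (SUs c 3)
local notation "π" => QuotientGroup.mk' (Subgroup.center (SUs c 3))

/-- The unipotent radical in the quotient. -/
theorem model_borel (hq : 1 < c.q) :
    IsPGroup 2 ((UG c).map π) ∧ ¬ 2 ∣ ((UG c).map π).index ∧ Nat.card ((UG c).map π) = c.q ^ 3 ∧
      (∀ x ∈ Subgroup.normalizer (((UG c).map π : Subgroup PU) : Set PU),
        ∀ y ∈ Subgroup.normalizer (((UG c).map π : Subgroup PU) : Set PU),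
          x * y * x⁻¹ * y⁻¹ ∈ (UG c).map π) ∧
      c.q ^ 3 * (c.q ^ 2 - 1) ≤ 3 * Nat.card (Subgroup.normalizer (((UG c).map π : Subgroup PU) : Set PU)) := by
  classical
  haveI : Fact (Nat.Prime 2) := ⟨Nat.prime_two⟩
  have hcop : ∀ z ∈ UG c, π z = 1 → z = 1 := fun z hz e => by
    obtain ⟨k, hk⟩ := exists_ppow c 2 hz
    have hz' := (QuotientGroup.eq_one_iff z).mp e
    have h3 : orderOf z ∣ 3 := by
      refine dvd_trans ?_ (card_center c).1
      rw [← Subgroup.orderOf_mk z hz']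
      exact orderOf_dvd_natCard _
    exact orderOf_eq_one_iff.1 (Nat.eq_one_of_dvd_coprimes (Nat.Coprime.pow_left k (by norm_num : Nat.Coprime 2 3))
      (orderOf_dvd_of_pow_eq_one hk) h3)
  have hp : IsPGroup 2 ((UG c).map π) := IsPGroup.map (isPGroup_UU c 2) π
  have hcard : Nat.card ((UG c).map π) = c.q ^ 3 := by
    rw [← card_UG c]
    refine (Nat.card_eq_of_bijective (fun v : UG c => (⟨π v, Subgroup.mem_map_of_mem π v.2⟩ : (UG c).map π))
      ⟨fun v w e => Subtype.ext ?_, ?_⟩).symm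
    · exact inv_mul_eq_one.1 (hcop _ (mul_mem (inv_mem v.2) w.2) (by
        have e' : π (v : S3) = π (w : S3) := congrArg Subtype.val e
        rw [map_mul, map_inv, e', inv_mul_cancel]))
    · rintro ⟨_, v, hv, rfl⟩
      exact ⟨⟨v, hv⟩, rfl⟩
  have hle : (BG c).map π ≤ Subgroup.normalizer (((UG c).map π : Subgroup PU) : Set PU) := by
    rintro _ ⟨g, hg, rfl⟩
    refine Subgroup.mem_normalizer_iff.mpr fun x => ⟨?_, fun hx => ?_⟩
    · rintro ⟨v, hv, rfl⟩
      exact ⟨g * v * g⁻¹, conj_UG c hg hv, by simp⟩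
    · obtain ⟨v, hv, e⟩ := hx
      refine ⟨g⁻¹ * v * g⁻¹⁻¹, conj_UG c (inv_mem hg) hv, ?_⟩
      simp only [map_mul, map_inv, inv_inv]
      rw [e]; group
  have hN : ∀ x ∈ Subgroup.normalizer (((UG c).map π : Subgroup PU) : Set PU), ∃ g ∈ BG c, π g = x := by
    intro x hx
    obtain ⟨g, rfl⟩ := QuotientGroup.mk'_surjective _ x
    refine ⟨g, ?_, rfl⟩
    obtain ⟨v, hv, hv1⟩ : ∃ v ∈ UG c, v ≠ 1 := by
      have h1 : 1 < Nat.card (UG c) := by rw [card_UG c]; exact Nat.one_lt_pow (by norm_num) hq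
      haveI := Finite.one_lt_card_iff_nontrivial.1 h1
      obtain ⟨v, hv⟩ := exists_ne (1 : UG c)
      exact ⟨v, v.2, fun e => hv (Subtype.ext e)⟩
    obtain ⟨w, hw, e⟩ := (Subgroup.mem_normalizer_iff''.mp hx (π v)).mp (Subgroup.mem_map_of_mem π hv)
    obtain ⟨z, hz, e'⟩ : ∃ z ∈ Subgroup.center S3, g⁻¹ * v * g = w * z := by
      refine ⟨w⁻¹ * (g⁻¹ * v * g), (QuotientGroup.eq_one_iff _).mp ?_, by group⟩
      show π (w⁻¹ * (g⁻¹ * v * g)) = 1
      simp only [map_mul, map_inv]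
      rw [← e, inv_mul_cancel]
    obtain ⟨k, hk⟩ := exists_ppow c 2 hv
    refine ti c hv hv1 (mem_UG_of_ppow c 2 (k := k) (e' ▸ mul_mem (UG_le c hw) (center_le_BG c hz)) ?_)
    rw [show g⁻¹ * v * g = MulAut.conj g⁻¹ v by simp, ← map_pow, hk, map_one]
  refine ⟨hp, ?_, hcard, fun x hx y hy => ?_, ?_⟩
  · intro h2
    have h := h2.trans ((UG c).index_map_dvd (QuotientGroup.mk'_surjective _))
    have hidx : (UG c).index = (c.q ^ 2 - 1) * (c.q ^ 3 + 1) := by
      have e := (UG c).card_mul_index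
      rw [card_UG c, card_G] at e
      exact Nat.eq_of_mul_eq_mul_left (pow_pos (by omega) 3) e
    obtain ⟨f, hf, e⟩ := exists_pow_q c 2
    obtain ⟨g, hg⟩ : (2 : ℕ) ∣ c.q := e ▸ dvd_pow_self 2 hf.ne'
    rw [hidx] at h
    rcases (Nat.prime_two).dvd_mul.mp h with h | h
    · have h0 : 0 < c.q ^ 2 := pow_pos (by omega) 2
      have : 2 ∣ c.q ^ 2 := dvd_pow (⟨g, hg⟩) two_ne_zero
      omega
    · have : 2 ∣ c.q ^ 3 := dvd_pow (⟨g, hg⟩) three_ne_zero
      omega
  · obtain ⟨g, hg, rfl⟩ := hN x hx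
    obtain ⟨h, hh, rfl⟩ := hN y hy
    refine ⟨g * h * g⁻¹ * h⁻¹, ?_, by simp⟩
    have hm : g * h * g⁻¹ * h⁻¹ ∈ BG c := mul_mem (mul_mem (mul_mem hg hh) (inv_mem hg)) (inv_mem hh)
    have hker : (⟨g * h * g⁻¹ * h⁻¹, hm⟩ : BG c) ∈ (corner c).ker := by
      show corner c ((⟨g, hg⟩ : BG c) * ⟨h, hh⟩ * ⟨g, hg⟩⁻¹ * ⟨h, hh⟩⁻¹) = 1
      rw [map_mul, map_mul, map_mul, map_inv, map_inv, mul_comm (corner c ⟨g, hg⟩), mul_inv_cancel_right,
        mul_inv_cancel]
    rw [corner_ker] at hker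
    exact hker
  · have h1 : Nat.card (BG c) ≤ 3 * Nat.card ((BG c).map π) := by
      rw [← ((π).domRestrict (BG c)).ker.card_mul_index, Subgroup.index_ker, MonoidHom.domRestrict_range]
      refine Nat.mul_le_mul_right _ (le_trans ?_ (Nat.le_of_dvd (by norm_num) (card_center c).1))
      refine Nat.card_le_card_of_injective (fun x => (⟨((x : BG c) : S3), ?_⟩ : Subgroup.center S3)) ?_
      · exact (QuotientGroup.eq_one_iff _).mp x.2
      · intro x y e
        exact Subtype.ext (Subtype.ext (congrArg (fun z : Subgroup.center S3 => (z : S3)) e))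
    rw [card_BG c 2] at h1
    exact h1.trans (Nat.mul_le_mul_left 3 (Subgroup.card_le_of_le hle))

/-- The same for a group isomorphic to `PSU₃`. -/
theorem borel_facts {G : Type u} [Group G] [Finite G] {K : Type} [Field K] [Fintype K] {n : ℕ} (hn : 2 ≤ n)
    (hK : Fintype.card K = (2 ^ n) ^ 2) (e : G ≃* Cfsg.PSU 3 K (2 ^ n)) {Q : Subgroup G} (hQ : IsPGroup 2 Q)
    (hidx : ¬ 2 ∣ Q.index) {q : ℕ} (hq : Nat.card Q = q ^ 3) :
    (∀ x ∈ Subgroup.normalizer (Q : Set G), ∀ y ∈ Subgroup.normalizer (Q : Set G), x * y * x⁻¹ * y⁻¹ ∈ Q) ∧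
      q ^ 3 * (q ^ 2 - 1) ≤ 3 * Nat.card (Subgroup.normalizer (Q : Set G)) := by
  classical
  haveI : Fact (Nat.Prime 2) := ⟨Nat.prime_two⟩
  obtain ⟨-, σ, hσ⟩ := CfsgLib.UnitaryBasic.frob_exists hK
  let c : Conj K := ⟨2 ^ n, σ, hK, hσ⟩
  haveI : CharP K 2 := by
    obtain ⟨p, hp⟩ := CharP.exists K
    obtain ⟨m, hpp, hm⟩ := FiniteField.card K p
    rw [hK, ← pow_mul] at hm
    have : p = 2 := ((Nat.prime_dvd_prime_iff_eq Nat.prime_two hpp).mp
      (Nat.prime_two.dvd_of_dvd_pow (hm ▸ dvd_pow_self 2 (by omega)))).symm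
    rwa [this] at hp
  have hc : 1 < c.q := Nat.one_lt_pow (by omega) (by norm_num)
  obtain ⟨E⟩ := exists_iso c (n := 3)
  let eP : (SUs c 3 ⧸ Subgroup.center (SUs c 3)) ≃* Cfsg.PSU 3 K (2 ^ n) :=
    QuotientGroup.congr _ _ E (by
      ext x
      constructor
      · rintro ⟨y, hy, rfl⟩
        exact Subgroup.mem_center_iff.mpr fun z => by
          obtain ⟨z', rfl⟩ := E.surjective z
          show E z' * E y = E y * E z'
          rw [← map_mul, ← map_mul, Subgroup.mem_center_iff.mp hy z']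
      · intro hx
        refine ⟨E.symm x, Subgroup.mem_center_iff.mpr fun z => E.injective ?_, by simp⟩
        simp [Subgroup.mem_center_iff.mp hx (E z)])
  let e₀ : G ≃* (SUs c 3 ⧸ Subgroup.center (SUs c 3)) := e.trans eP.symm
  obtain ⟨hp, hi, hcard, hcomm, hbound⟩ := model_borel c hc
  let P : Sylow 2 (SUs c 3 ⧸ Subgroup.center (SUs c 3)) := hp.toSylow hi
  let P' : Sylow 2 (SUs c 3 ⧸ Subgroup.center (SUs c 3)) :=
    (hQ.map e₀.toMonoidHom).toSylow fun h => hidx (h.trans (Q.index_map_dvd e₀.surjective))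
  obtain ⟨g, hg⟩ := MulAction.exists_smul_eq (SUs c 3 ⧸ Subgroup.center (SUs c 3)) P' P
  let ψ : G ≃* (SUs c 3 ⧸ Subgroup.center (SUs c 3)) := e₀.trans (MulAut.conj g)
  have hψ : Q.map ψ.toMonoidHom = (P : Subgroup _) := by
    rw [← hg, Sylow.coe_subgroup_smul]
    show _ = MulAut.conj g • Q.map e₀.toMonoidHom
    ext x
    simp only [Subgroup.mem_pointwise_smul_iff_inv_smul_mem, Subgroup.mem_map]
    constructor
    · rintro ⟨z, hz, rfl⟩
      exact ⟨z, hz, by simp [ψ, MulAut.smul_def, mul_assoc]⟩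
    · rintro ⟨z, hz, hze⟩
      refine ⟨z, hz, ?_⟩
      have : e₀ z = g⁻¹ * x * g := by simpa [MulAut.smul_def] using hze
      simp [ψ, this, mul_assoc]
  have hPm : (P : Subgroup _) = (UG c).map (QuotientGroup.mk' (Subgroup.center (SUs c 3))) := rfl
  rw [hPm] at hψ
  have hmem : ∀ x, x ∈ Subgroup.normalizer (Q : Set G) ↔
      ψ x ∈ Subgroup.normalizer (((UG c).map (QuotientGroup.mk' (Subgroup.center (SUs c 3))) :
        Subgroup (SUs c 3 ⧸ Subgroup.center (SUs c 3))) : Set (SUs c 3 ⧸ Subgroup.center (SUs c 3))) := by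
    intro x
    rw [← hψ, ← Subgroup.map_equiv_normalizer_eq]
    exact (Subgroup.mem_map_iff_mem ψ.injective).symm
  have hqq : q = c.q := by
    have h := Subgroup.card_map_of_injective (K := Q) (f := ψ.toMonoidHom) ψ.injective
    rw [hψ, hcard, hq] at h
    exact (Nat.pow_left_injective three_ne_zero h).symm
  refine ⟨fun x hx y hy => ?_, ?_⟩
  · have h := hcomm _ ((hmem x).mp hx) _ ((hmem y).mp hy)
    rw [← hψ] at h
    obtain ⟨z, hz, hze⟩ := h
    have : z = x * y * x⁻¹ * y⁻¹ := ψ.injective (by simpa using hze)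
    exact this ▸ hz
  · rw [hqq]
    refine hbound.trans (le_of_eq ?_)
    rw [← hψ, ← Subgroup.map_equiv_normalizer_eq, Subgroup.card_map_of_injective ψ.injective]

end CfsgLib.Bender.Tight
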