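import Cfsg.Agent.Lib.Bender.Tight.RankOneData
import Cfsg.Agent.Lib.Bender.Tight.UnitaryBorel
import Cfsg.Agent.Lib.Bender.Tight.FreeCount
import Cfsg.Agent.Lib.SuzukiRankOne.UnitaryFree

/-!
A large group of the two-point stabiliser acting freely on the cosets of the involutions in the regular normal
subgroup; an invariant subgroup between the two is one of them.
-/

set_option autoImplicit false
set_option linter.unusedSectionVars false
set_option linter.style.haveILetI false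

namespace CfsgLib.Bender.Tight

open MulAction Cfsg CfsgLib.RankOne CfsgLib.SuzukiRankOne CfsgLib.Dickson
open CfsgLib.AfterFT.SplitRankOne (invGroup mem_invGroup)

universe u v

variable {G : Type u} {Ω : Type v} [Group G] [Finite G] [MulAction G Ω] [FaithfulSMul G Ω] {a : Ω} {t : G}
  {Q : Subgroup G}

/-- The layer data. -/
structure Layer (hS : IsRankOneSetup G Ω a t Q) (h2 : Four G) (Δ : Subgroup G) : Prop where
  le : Δ ≤ D a t
  free : ∀ d ∈ Δ, ∀ x ∈ Q, x ∉ invGroup hS h2 → d * x * d⁻¹ * x⁻¹ ∈ invGroup hS h2 → d = 1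
  bound : Nat.card Q ≤ qZ G a * (3 * Nat.card Δ + 1)
  five : 5 < Nat.card Δ

variable (hS : IsRankOneSetup G Ω a t Q) (h2 : Four G)
include hS h2

/-- An invariant subgroup between the involutions and `Q` is one of them. -/
theorem Layer.cases_subgroup {Δ : Subgroup G} (hL : Layer hS h2 Δ) {H : Subgroup G}
    (hle : invGroup hS h2 ≤ H) (hHQ : H ≤ Q) (hinv : ∀ d ∈ Δ, ∀ x ∈ H, d * x * d⁻¹ ∈ H) :
    H = invGroup hS h2 ∨ H = Q := by
  classical
  have hodd : Odd (Nat.card Δ) := hS.odd_card.of_dvd_nat (Subgroup.card_dvd_of_le hL.le)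
  have hcop : Nat.Coprime (Nat.card Δ) (qZ G a) := by
    obtain ⟨f, -, hf⟩ := Ext.qZ_two_pow hS h2
    rw [hf]
    exact (Nat.coprime_two_right.mpr hodd).pow_right f
  have hq := card_invGroup hS h2
  have hq0 : 0 < qZ G a := by have := three_le_qZ hS h2; omega
  have key : ∀ K : Subgroup G, invGroup hS h2 ≤ K → K ≤ Q → (∀ d ∈ Δ, ∀ x ∈ K, d * x * d⁻¹ ∈ K) →
      ∃ k, Nat.card K = qZ G a * (Nat.card Δ * k + 1) := by
    intro K hK hKQ hKinv
    obtain ⟨k', hk'⟩ := hq ▸ Subgroup.card_dvd_of_le hK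
    have hdvd := card_dvd_of_free Δ ((K : Set G) \ (invGroup hS h2 : Set G)) (fun d hd x hx => ?_)
      (fun d hd x hx e => hL.free d hd x (hKQ hx.1) hx.2 (by rw [e, mul_inv_cancel]; exact one_mem _))
    · rw [Set.ncard_sdiff (show (invGroup hS h2 : Set G) ⊆ K from hK), ← Nat.card_coe_set_eq, ← Nat.card_coe_set_eq,
        SetLike.coe_sort_coe, SetLike.coe_sort_coe, hq, hk', show qZ G a * k' - qZ G a = qZ G a * (k' - 1) by
          rw [Nat.mul_sub, mul_one]] at hdvd
      obtain ⟨k, hk⟩ := hcop.dvd_of_dvd_mul_left hdvd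
      refine ⟨k, ?_⟩
      have h0 : 0 < k' := by
        by_contra h
        have : k' = 0 := by omega
        rw [this, mul_zero] at hk'
        exact absurd hk' (Nat.card_pos).ne'
      rw [hk', ← hk, Nat.sub_add_cancel h0]
    · refine ⟨hKinv d hd x hx.1, fun h => hx.2 ?_⟩
      have := CfsgLib.AfterFT.SplitRankOne.conj_mem_invGroup hS h2 (inv_mem (hL.le hd)) h
      simpa [mul_assoc] using this
  obtain ⟨k, hk⟩ := key H hle hHQ hinv
  rcases Nat.eq_zero_or_pos k with hk0 | hk0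
  · refine Or.inl (Subgroup.eq_of_le_of_card_ge hle ?_).symm
    rw [hq, hk, hk0]; simp
  refine Or.inr (Subgroup.eq_of_le_of_card_ge hHQ ?_)
  obtain ⟨n, hn⟩ := key Q (invGroup_le hS h2) le_rfl fun d hd x hx =>
    conj_Q hS ((mem_D hS).mp (hL.le hd)).1 hx
  obtain ⟨i, hi⟩ := Subgroup.card_dvd_of_le hHQ
  have hm := hL.five
  have hb := hL.bound
  have hd : Nat.card Δ * k + 1 ∣ Nat.card Δ * n + 1 :=
    ⟨i, Nat.eq_of_mul_eq_mul_left hq0 (by rw [← hn, hi, hk]; ring)⟩
  rw [hn] at hb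
  have hn3 : n ≤ 3 := Nat.le_of_mul_le_mul_left (by
    have := Nat.le_of_mul_le_mul_left hb hq0
    omega) (show 0 < Nat.card Δ by omega)
  have hnk : n = k := by
    by_contra hne
    obtain ⟨j, hj⟩ := hd
    rcases Nat.lt_or_ge j 2 with hj2 | hj2
    · interval_cases j
      · omega
      · exact hne (Nat.eq_of_mul_eq_mul_left (show 0 < Nat.card Δ by omega) (by omega))
    · -- the cofactor is one modulo the order of `Δ`
      have hj1 : Nat.card Δ ∣ j - 1 := by
        have hz : (Nat.card Δ : ℤ) ∣ (j : ℤ) - 1 := ⟨(n : ℤ) - (k : ℤ) * j, by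
          have := congrArg (Nat.cast : ℕ → ℤ) hj
          push_cast at this ⊢
          linarith⟩
        rwa [← Nat.cast_one, ← Nat.cast_sub (by omega), Int.natCast_dvd_natCast] at hz
      have h1 := Nat.le_of_dvd (by omega) hj1
      have h2' : Nat.card Δ * n + 1 ≤ 3 * Nat.card Δ + 1 := by nlinarith
      have h3 : (Nat.card Δ + 1) * (Nat.card Δ + 1) ≤ (Nat.card Δ * k + 1) * j :=
        Nat.mul_le_mul (by nlinarith) (by omega)
      nlinarith
  rw [hn, hk, hnk]

omit h2 in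
/-- In the unitary case a central element fixing a point off the line is trivial. -/
theorem eq_one_of_off_line {F : Type} [Field F] [Fintype F] [CharP F 2] [DecidableEq F] (C : Chart a t Q F)
    (hq : Nat.card Q = Fintype.card F ^ 3) {w : G} (hw : w ∈ D a t) (hwt : t * w = w * t)
    (hD : ∀ d ∈ D a t, d * w = w * d) (hZ : ∀ x ∈ Q, x * x = 1 → x * w = w * x) {x : G} (hx : x ∈ Q)
    (hx2 : x * x ≠ 1) (hxw : w * x = x * w) : w = 1 := by
  have hcomm : ∀ g : SL2 F, C.φ g * w = w * C.φ g := by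
    intro g
    refine gen_induction (P := fun g => C.φ g * w = w * C.φ g) ?_ ?_ ?_ ?_ g
    · rw [map_one, one_mul, mul_one]
    · intro g y hg
      rw [map_mul, mul_assoc, hZ _ (C.mem y) (by rw [← map_mul, up_sq, map_one]), ← mul_assoc, hg, mul_assoc]
    · intro g e hg
      rw [map_mul, mul_assoc, hD _ (C.dia_mem e).1, ← mul_assoc, hg, mul_assoc]
    · intro g hg
      rw [map_mul, C.w, mul_assoc, hwt, ← mul_assoc, hg, mul_assoc]
  obtain ⟨hwa, hwb⟩ := (mem_D hS).mp hw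
  have hline : ∀ p, w • C.pt p = C.pt p := by
    intro p
    cases p with
    | infty => exact hwa
    | coe y => rw [Chart.pt_coe, ← mul_smul, ← hcomm, mul_smul, hwb]
  have hfix : w • x • t • a = x • t • a := by rw [← mul_smul, hxw, mul_smul, hwb]
  have hoff : ¬ C.OnLine (x • t • a) := by
    rintro ⟨p, hp⟩
    cases p with
    | infty => exact ta_ne hS (smul_left_cancel x (hp.symm.trans (mem_Q_a hS hx).symm))
    | coe y =>
      refine hx2 ?_
      rw [← Q_ta_inj hS (C.mem y) hx hp, ← map_mul, up_sq, map_one]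
  obtain ⟨c₀, -, -, hcov⟩ := C.exists_base hS hq
  obtain ⟨g₁, hg₁⟩ := hcov _ hoff
  have hc₀ : w • c₀ = c₀ := by
    refine smul_left_cancel (C.φ g₁) ?_
    rw [← mul_smul, hcomm, mul_smul, hg₁, hfix]
  refine eq_of_smul_eq_smul (α := Ω) fun c => ?_
  rw [one_smul]
  by_cases hc : C.OnLine c
  · obtain ⟨p, rfl⟩ := hc
    exact hline p
  · obtain ⟨g, rfl⟩ := hcov _ hc
    rw [← mul_smul, ← hcomm, mul_smul, hc₀]

/-- Suzuki case: `q ≠ 4`. -/
theorem qZ_ne_four (hsq : ∀ x ∈ Q, x * x ∈ invGroup hS h2) (hne : ∃ x ∈ Q, x * x ≠ 1)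
    (hQ : Nat.card Q = qZ G a ^ 2) : qZ G a ≠ 4 := by
  classical
  intro h4
  obtain ⟨x, hx, hx1⟩ := hne
  obtain ⟨C, hC, hCD, hCc⟩ := exists_invertedGroup hS h2
  rw [h4] at hCc
  obtain ⟨k, hk⟩ : ∃ k : C, k ≠ 1 := by
    haveI : Nontrivial C := Finite.one_lt_card_iff_nontrivial.1 (by omega)
    exact exists_ne 1
  have hk3 : (k : G) ^ 3 = 1 := by
    have := congrArg Subtype.val (pow_card_eq_one' (x := k))
    rwa [hCc] at this
  have hk1 : (k : G) ≠ 1 := fun e => hk (Subtype.ext e)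
  have hkk : (k : G) * k ≠ 1 := fun e => hk1 (by rwa [pow_succ, pow_two, e, one_mul] at hk3)
  have hkI : (k : G) ∈ invertedBy (D a t) t := hC.le k.2
  have hkkI : (k : G) * k ∈ invertedBy (D a t) t := hC.le (mul_mem k.2 k.2)
  have hka := ((mem_D hS).mp (hCD k.2)).1
  set y := (k : G) * x * (k : G)⁻¹ with hy
  set w := (k : G) * y * (k : G)⁻¹ with hw
  have hyQ : y ∈ Q := conj_Q hS hka hx
  have hwQ : w ∈ Q := conj_Q hS hka hyQ
  have hxZ : x ∉ invGroup hS h2 := fun h => hx1 h.2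
  have hyZ : y ∉ invGroup hS h2 := fun h => hx1 (by
    have h' : y * y = 1 := h.2
    rw [hy] at h'
    calc x * x = (k : G)⁻¹ * ((k : G) * x * (k : G)⁻¹ * ((k : G) * x * (k : G)⁻¹)) * k := by group
      _ = 1 := by rw [h']; group)
  have hwZ : w ∉ invGroup hS h2 := fun h => hyZ (mem_inv_of_sq hS h2 hyQ (by
    have h' : w * w = 1 := h.2
    rw [hw] at h'
    calc y * y = (k : G)⁻¹ * ((k : G) * y * (k : G)⁻¹ * ((k : G) * y * (k : G)⁻¹)) * k := by group
      _ = 1 := by rw [h']; group))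
  have hyx : y * x⁻¹ ∉ invGroup hS h2 := fun h => hk1 (free_coset_inverted hS h2 hsq hkI hx hxZ h)
  have hwy : w * y⁻¹ ∉ invGroup hS h2 := fun h => hk1 (free_coset_inverted hS h2 hsq hkI hyQ hyZ h)
  have hwx : w * x⁻¹ ∉ invGroup hS h2 := fun h => hkk (free_coset_inverted hS h2 hsq hkkI hx hxZ (by
    rwa [hw, hy, show (k : G) * ((k : G) * x * (k : G)⁻¹) * (k : G)⁻¹ =
      (k : G) * k * x * ((k : G) * k)⁻¹ by group] at h))
  -- the four cosets
  let f : Fin 4 × invGroup hS h2 → Q := fun p =>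
    ⟨(p.2 : G) * ![1, x, y, w] p.1, mul_mem (invGroup_le hS h2 p.2.2) (by
      rcases p with ⟨i, -⟩
      fin_cases i
      exacts [one_mem _, hx, hyQ, hwQ])⟩
  have hf : Function.Bijective f := by
    refine (Nat.bijective_iff_injective_and_card f).2 ⟨?_, ?_⟩
    · rintro ⟨i, z⟩ ⟨j, z'⟩ e
      have e' : (z : G) * ![1, x, y, w] i = (z' : G) * ![1, x, y, w] j := congrArg Subtype.val e
      have hm : ![1, x, y, w] i * (![1, x, y, w] j)⁻¹ ∈ invGroup hS h2 := by
        have : ![1, x, y, w] i * (![1, x, y, w] j)⁻¹ = (z : G)⁻¹ * z' := by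
          rw [mul_inv_eq_iff_eq_mul, mul_assoc, ← e', inv_mul_cancel_left]
        rw [this]; exact mul_mem (inv_mem z.2) z'.2
      have hij : i = j := by
        have hm' := inv_mem hm
        fin_cases i <;> fin_cases j <;> simp at hm hm' ⊢ <;> contradiction
      subst hij
      exact Prod.ext rfl (Subtype.ext (mul_right_cancel e'))
    · rw [Nat.card_prod, Nat.card_fin, card_invGroup hS h2, hQ, h4]; norm_num
  have hcov : ∀ g ∈ Q, ∃ z ∈ invGroup hS h2, g = z ∨ g = z * x ∨ g = z * y ∨ g = z * w := by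
    intro g hg
    obtain ⟨⟨i, z⟩, e⟩ := hf.2 ⟨g, hg⟩
    have e' : (z : G) * ![1, x, y, w] i = g := congrArg Subtype.val e
    refine ⟨z, z.2, ?_⟩
    fin_cases i <;> simp at e' <;> simp [← e']
  have hcz : ∀ {z g : G}, z ∈ invGroup hS h2 → g ∈ Q → z * g = g * z := fun h h' => inv_comm hS h2 h h'
  -- `x y` lies in the coset of `w`
  obtain ⟨z, hz, hzw⟩ : ∃ z ∈ invGroup hS h2, x * y = z * w := by
    obtain ⟨z, hz, h | h | h | h⟩ := hcov _ (mul_mem hx hyQ)
    · refine absurd (show y * x⁻¹ ∈ invGroup hS h2 from ?_) hyx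
      have : y * x⁻¹ = z * (x * x)⁻¹ := by
        rw [show y = x⁻¹ * z by rw [← h]; group, ← hcz hz (inv_mem hx)]; group
      rw [this]; exact mul_mem hz (inv_mem (hsq x hx))
    · refine absurd (show y ∈ invGroup hS h2 from ?_) hyZ
      rwa [mul_left_cancel (h.trans (hcz hz hx))]
    · exact absurd (show x ∈ invGroup hS h2 by rwa [mul_right_cancel h]) hxZ
    · exact ⟨z, hz, h⟩
  -- squares: three distinct involutions of a four group
  have hs : ∀ {g : G}, g ∈ Q → (k : G) * g * (k : G)⁻¹ * ((k : G) * g * (k : G)⁻¹) = (k : G) * (g * g) * (k : G)⁻¹ :=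
    fun _ => by group
  have hy2 : y * y = (k : G) * (x * x) * (k : G)⁻¹ := hs hx
  have hw2 : w * w = (k : G) * (y * y) * (k : G)⁻¹ := hs hyQ
  have h12 : x * x ≠ y * y := fun e => hx1 (inverted_free hS h2 hkI hk1 (mul_mem hx hx) (hy2.symm.trans e.symm))
  have hy1 : y * y ≠ 1 := fun h => hyZ (mem_inv_of_sq hS h2 hyQ h)
  have h23 : y * y ≠ w * w := fun e => hy1 (inverted_free hS h2 hkI hk1 (mul_mem hyQ hyQ) (hw2.symm.trans e.symm))
  have h13 : x * x ≠ w * w := fun e => hx1 (inverted_free hS h2 hkkI hkk (mul_mem hx hx) (by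
    rw [show (k : G) * k * (x * x) * ((k : G) * k)⁻¹ = (k : G) * ((k : G) * (x * x) * (k : G)⁻¹) * (k : G)⁻¹ by group,
      ← hy2, ← hw2, ← e]))
  have hprod : x * x * (y * y) = w * w := by
    have hxx := hsq x hx
    have hyy := hsq y hyQ
    have hww := hsq w hwQ
    by_contra hne
    let S : Finset (invGroup hS h2) :=
      {1, ⟨_, hxx⟩, ⟨_, hyy⟩, ⟨_, hww⟩, ⟨_, mul_mem hxx hyy⟩}
    have hS5 : S.card = 5 := by
      have hxi : (x * x)⁻¹ = x * x := inv_eq_of_mul_eq_one_right hxx.2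
      have a1 : x * x * (y * y) ≠ 1 := fun e => h12 (hxi.symm.trans (inv_eq_of_mul_eq_one_right e))
      have a2 : x * x * (y * y) ≠ x * x := fun e => hy1 (mul_eq_left.mp e)
      have a3 : x * x * (y * y) ≠ y * y := fun e => hx1 (mul_eq_right.mp e)
      have hw1 : w * w ≠ 1 := fun h => hwZ (mem_inv_of_sq hS h2 hwQ h)
      simp [S, Finset.card_insert_of_notMem, Subtype.ext_iff, hx1, hy1, hw1, h12, h13, h23, hne, Ne.symm hne, a1.symm, a2.symm,
        a3.symm, Ne.symm hx1, Ne.symm hy1, Ne.symm hw1]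
    haveI := Fintype.ofFinite (invGroup hS h2)
    have h5 := S.card_le_univ
    rw [hS5, ← Nat.card_eq_fintype_card, card_invGroup hS h2, h4] at h5
    omega
  -- hence commutation
  have hxy : x * y = y * x := by
    have e : x * y * (x * y) = w * w := by
      rw [hzw]
      calc z * w * (z * w) = z * (w * z) * w := by group
        _ = z * z * (w * w) := by rw [← hcz hz hwQ]; group
        _ = w * w := by rw [hz.2, one_mul]
    rw [← hprod] at e
    have : x * (y * x) * y = x * (x * y) * y := by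
      rw [show x * (y * x) * y = x * y * (x * y) by group, e]; group
    exact (mul_left_cancel (mul_right_cancel this)).symm
  have hwexp : w = z⁻¹ * (x * y) := by rw [hzw]; group
  have hgen : ∀ g ∈ Q, g * x = x * g ∧ g * y = y * g := by
    have cx : Commute x y := hxy
    intro g hg
    obtain ⟨z', hz', h | h | h | h⟩ := hcov g hg
    all_goals
      have c1 : Commute z' x := hcz hz' hx
      have c2 : Commute z' y := hcz hz' hyQ
      have c3 : Commute z⁻¹ x := (show Commute z x from hcz hz hx).inv_left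
      have c4 : Commute z⁻¹ y := (show Commute z y from hcz hz hyQ).inv_left
      rw [h]
    · exact ⟨c1, c2⟩
    · exact ⟨c1.mul_left (Commute.refl x), c2.mul_left cx⟩
    · exact ⟨c1.mul_left cx.symm, c2.mul_left (Commute.refl y)⟩
    · rw [hwexp]
      exact ⟨c1.mul_left (c3.mul_left ((Commute.refl x).mul_left cx.symm)),
        c2.mul_left (c4.mul_left (cx.mul_left (Commute.refl y)))⟩
  have hab : ∀ g ∈ Q, ∀ g' ∈ Q, g * g' = g' * g := by
    intro g hg g' hg'
    obtain ⟨hgx, hgy⟩ := hgen g hg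
    obtain ⟨z', hz', h | h | h | h⟩ := hcov g' hg'
    all_goals
      have c0 : Commute g z' := (hcz hz' hg).symm
      rw [h]
    · exact c0
    · exact c0.mul_right hgx
    · exact c0.mul_right hgy
    · rw [hwexp]
      exact c0.mul_right (((show Commute z g from hcz hz hg).inv_left.symm).mul_right
        ((show Commute g x from hgx).mul_right hgy))
  rcases (concl hS h2).2.1 with h | ⟨⟨u, hu, u', hu', hne'⟩, -⟩
  · exact hx1 (h x hx)
  · exact hne' (hab u hu u' hu')

/-- The layer data exist unless `Q` is elementary. -/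
theorem exists_layer (hQ2 : IsPGroup 2 Q) (hsq : ∀ x ∈ Q, x * x ∈ invGroup hS h2) (hne : ∃ x ∈ Q, x * x ≠ 1)
    (hshape : (Nat.card Q = qZ G a ^ 2 ∧ ¬ Rsq a t Q) ∨
      (Nat.card Q = qZ G a ^ 3 ∧ Rsq a t Q ∧ ∀ x ∈ Q, x * x * (x * x) = 1))
    (hgen : ∀ N : Subgroup G, N.Normal → Odd N.index → N = ⊤) : ∃ Δ : Subgroup G, Layer hS h2 Δ := by
  classical
  obtain ⟨C, hC, hCD, hCc⟩ := exists_invertedGroup hS h2
  obtain ⟨f, hf2, hf⟩ := Ext.qZ_two_pow hS h2
  have hq4 : 4 ≤ qZ G a := hf ▸ (Nat.pow_le_pow_right (show 0 < 2 by norm_num) hf2)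
  rcases hshape with ⟨hQ, -⟩ | ⟨hQ, hr, hsq4⟩
  · refine ⟨C, hCD, fun d hd x hx hxZ h => free_coset_inverted hS h2 hsq (hC.le hd) hx hxZ h, ?_, ?_⟩
    · rw [hQ, hCc, pow_two]
      exact Nat.mul_le_mul_left _ (by omega)
    · rw [hCc]
      have hne4 := qZ_ne_four hS h2 hsq hne hQ
      have hf3 : 3 ≤ f := by
        by_contra hc
        exact hne4 (by rw [hf, show f = 2 by omega]; norm_num)
      have : 2 ^ 3 ≤ 2 ^ f := Nat.pow_le_pow_right (by norm_num) hf3
      omega
  obtain ⟨L, hLn, hLi, K, iK, iKt, n, hn, hK, ⟨e⟩⟩ := unitary hS h2 hQ2 hsq4 hr hQ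
  obtain rfl := hgen L hLn hLi
  obtain ⟨hcomm, hbound⟩ := borel_facts hn hK (Subgroup.topEquiv.symm.trans e) hQ2
    (fun h => Nat.not_even_iff_odd.mpr (odd_index_of_le hS (le_refl Q)) (even_iff_two_dvd.mpr h)) hQ
  rw [normalizer_Q hS] at hcomm hbound
  rw [card_stab hS, hQ, mul_left_comm] at hbound
  have hD3 : qZ G a ^ 2 - 1 ≤ 3 * Nat.card (D a t) := Nat.le_of_mul_le_mul_left hbound (pow_pos (by omega) 3)
  have habD : ∀ d ∈ D a t, ∀ e ∈ D a t, d * e = e * d := fun d hd e he => by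
    have h1 := eq_one_of_fix_ta hS (hcomm d (D_le hS hd) e (D_le hS he))
      ((mem_D hS).mp (mul_mem (mul_mem (mul_mem hd he) (inv_mem hd)) (inv_mem he))).2
    rwa [mul_inv_eq_one, mul_inv_eq_iff_eq_mul] at h1
  obtain ⟨F, iF, iFt, iC, h4, hcard, ⟨Ch⟩⟩ := (uhyp_of_rsq hS h2 hr).exists_chart
  have hcard' : Fintype.card F = qZ G a := hcard
  obtain ⟨⟨s, r⟩, ⟨hs, hrQ, he⟩, -⟩ := structure_eq hS
  have hcent : ∀ w ∈ D a t, t * w = w * t → ∀ z ∈ invGroup hS h2, z * w = w * z := by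
    intro w hw hwt z hz
    by_cases hz1 : z = 1
    · rw [hz1, one_mul, mul_one]
    obtain ⟨k, hk, e⟩ := exists_conj_inverted hS (s1 := s) (s2 := z) hs ⟨hz.1, hz1, hz.2⟩
    have hsw := cent_s_of_cent_t hS hs hrQ he hw hwt
    have hkw : k * w = w * k := habD k hk.1 w hw
    have c1 : Commute (k⁻¹ * s * k) w :=
      ((show Commute k w from hkw).inv_left.mul_left hsw).mul_left hkw
    exact e ▸ c1
  refine ⟨D a t, le_rfl, fun d hd x hx hxZ hy => ?_, ?_, ?_⟩
  · obtain ⟨⟨v, l⟩, ⟨hv, hl, rfl⟩, -⟩ := Inverted.decomp hS.odd_card (D_norm hS) hS.mul_self hd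
    obtain ⟨hvD, hvt⟩ := Subgroup.mem_inf.mp hv
    have hvt' : t * v = v * t := (Subgroup.mem_centralizer_singleton_iff.mp hvt).symm
    have hzv := hcent v hvD hvt'
    have hfix := sq_of_shift hS h2 hy hx (show v * l * x * (v * l)⁻¹ = _ by group)
    have hla := ((mem_D hS).mp hl.1).1
    have hl1 : l = 1 := by
      by_contra hl1
      refine hxZ (mem_inv_of_sq hS h2 hx (inverted_free hS h2 hl hl1 (mul_mem hx hx) ?_))
      calc l * (x * x) * l⁻¹ = v⁻¹ * (v * l * (x * x) * (v * l)⁻¹) * v := by group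
        _ = x * x := by rw [hfix, mul_assoc, hzv _ (hsq x hx), inv_mul_cancel_left]
    subst hl1
    simp only [mul_one] at hy hd ⊢
    obtain ⟨y, hy', hyx⟩ : ∃ y ∈ invGroup hS h2, v * x * v⁻¹ = y * x := ⟨_, hy, by group⟩
    have hyp := eq_one_of_shift hS (p := orderOf v) (pow_orderOf_eq_one v) (hzv y hy').symm hyx
    have hy1 : y = 1 := by
      have hodd : Odd (orderOf v) := hS.odd_card.of_dvd_nat (Subgroup.orderOf_dvd_natCard _ hvD)
      obtain ⟨j, hj⟩ := hodd
      rwa [hj, pow_succ, pow_mul, pow_two, hy'.2, one_pow, one_mul] at hyp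
    rw [hy1, one_mul, mul_inv_eq_iff_eq_mul] at hyx
    exact eq_one_of_off_line hS Ch (by rw [hQ, hcard']) hvD hvt' (fun d hd => habD d hd v hvD)
      (fun y hy hy2 => hzv y (mem_inv_of_sq hS h2 hy hy2)) hx (fun h => hxZ (mem_inv_of_sq hS h2 hx h)) hyx
  · rw [hQ, pow_succ']
    exact Nat.mul_le_mul_left _ (by omega)
  · have hdvd : qZ G a - 1 ∣ Nat.card (D a t) := hCc ▸ Subgroup.card_dvd_of_le hCD
    rcases Nat.lt_or_ge (qZ G a) 8 with h8 | h8
    · have hf' : f = 2 := by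
        by_contra hc
        have : 2 ^ 3 ≤ 2 ^ f := Nat.pow_le_pow_right (by norm_num) (by omega)
        omega
      rw [show qZ G a = 4 by rw [hf, hf']; norm_num] at hD3 hdvd
      obtain ⟨j, hj⟩ := hdvd
      rw [show (4 : ℕ) ^ 2 - 1 = 15 from rfl] at hD3
      rw [show (4 : ℕ) - 1 = 3 from rfl] at hj
      omega
    · have : 64 ≤ qZ G a ^ 2 := by nlinarith
      omega

end CfsgLib.Bender.Tight
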