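import Cfsg.Agent.Lib.Bender.Tight.Image

/-!
A tightly embedded subgroup whose conjugates meet its normaliser oddly is normal or gives a strongly embedded
subgroup of its normal closure.
-/

set_option autoImplicit false
set_option linter.unusedSectionVars false
set_option linter.style.haveILetI false

namespace CfsgLib.Bender.Tight

open MulAction
open CfsgLib.Bender.TwoClosed (IsInv)
open CfsgLib.Bender.Assembly (orderOf_two isInv_of_orderOf fix_iff)
open CfsgLib.Bender.Q (TheoremQ permImg permGrp exists_conj_sylow)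
open CfsgLib.AfterFT.SplitRankOne (invGroup)

universe u

variable {G : Type u} [Group G] [Finite G] {Q : Subgroup G} (h : OddMeet Q) (hnn : ¬ Q.Normal)

include h hnn

/-- An involution of the Sylow subgroup of the normal closure fixes only the base point. -/
theorem fix_base (hA : TheoremQ.{u}) {T : Sylow 2 G}
    (hTM : (T : Subgroup G) ≤ Subgroup.normalizer (Q : Set G)) {z : G} (hzT : z ∈ (T : Subgroup G)) (hzQ : z ∈ Q)
    (hzi : IsInv z) (hzc : ∀ s ∈ (T : Subgroup G), Commute s z) {x : G}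
    (hx : x ∈ (T : Subgroup G) ⊓ Subgroup.normalClosure (Q : Set G)) (hxi : IsInv x)
    {c : G ⧸ Subgroup.normalizer (Q : Set G)} (hc : x • c = c) :
    c = ((1 : G) : G ⧸ Subgroup.normalizer (Q : Set G)) := by
  classical
  have hcrit := crit h hnn
  have hfin : x ∈ Q → c = ((1 : G) : G ⧸ Subgroup.normalizer (Q : Set G)) := fun hxQ =>
    (hcrit.one_fix (z := x) ⟨hxi, 1, by simpa using hxQ⟩).unique hc (fix_pt0.mpr (hTM hx.1))
  by_cases hfour : ∃ y ∈ Q, ∃ w ∈ Q, IsInv y ∧ IsInv w ∧ y ≠ w ∧ y * w = w * y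
  swap
  · exact hfin (rank_one h hnn hTM (fun y w hy hw hyQ hwQ e => by
      by_contra hne; exact hfour ⟨y, hyQ, w, hwQ, hy, hw, hne, e⟩) hzT hzQ hzi hzc hx.1 hx.2 hxi.2)
  set NBs := Subgroup.map (permImg G (G ⧸ Subgroup.normalizer (Q : Set G))) (Subgroup.closure (Zs Q)) with hNBs
  haveI : FaithfulSMul ↥NBs (G ⧸ Subgroup.normalizer (Q : Set G)) :=
    ⟨fun {a b} e => Subtype.ext (eq_of_smul_eq_smul e)⟩
  have hone := oneFix_NB h hnn hA hfour
  obtain ⟨t, U, hS, hU2⟩ := CfsgLib.Bender.Assembly.goodAll ↥NBs (G ⧸ Subgroup.normalizer (Q : Set G)) hone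
    ((1 : G) : G ⧸ Subgroup.normalizer (Q : Set G))
  have h2 : CfsgLib.SuzukiRankOne.Four ↥NBs := hone.four
  haveI := NN_normal hcrit
  -- the involutions of `U` come from `Q`
  have hZQ : ∀ v ∈ invGroup hS h2, (v : permGrp G (G ⧸ Subgroup.normalizer (Q : Set G))) ∈
      Subgroup.map (permImg G (G ⧸ Subgroup.normalizer (Q : Set G))) Q := by
    intro v hv
    by_cases hv1 : v = 1
    · rw [hv1]; exact one_mem _
    have hzN : z ∈ Subgroup.closure (Zs Q) := Subgroup.subset_closure ⟨hzi, 1, by simpa using hzQ⟩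
    let fz : ↥NBs := ⟨permImg G _ z, Subgroup.mem_map_of_mem _ hzN⟩
    obtain ⟨g, hg⟩ := RankOne.invol_conj hS (u := fz) (v := v)
      (fun e => not_inv_core h hnn hzi hzQ (ff_eq_one.mp (congrArg Subtype.val e)))
      (Subtype.ext (by show permImg G _ z * permImg G _ z = 1; rw [← map_mul, hzi.2, map_one])) hv1 hv.2
    obtain ⟨n, -, hne⟩ := g.2
    have e : permImg G _ (n * z * n⁻¹) = (v : permGrp G (G ⧸ Subgroup.normalizer (Q : Set G))) := by
      rw [map_mul, map_mul, map_inv, hne, ← hg]; rfl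
    refine ⟨n * z * n⁻¹, mem_Q_of_mem_Zs h ⟨hzi.conj n, n, by simpa [mul_assoc] using hzQ⟩ ?_, e⟩
    refine ff_fix.mp ?_
    rw [e]
    exact hv.1
  by_cases hUQ : ∀ v ∈ U, (v : permGrp G (G ⧸ Subgroup.normalizer (Q : Set G))) ∈
      Subgroup.map (permImg G (G ⧸ Subgroup.normalizer (Q : Set G))) Q
  · exact hfin (case_A h hnn hTM hS hU2 hUQ hx)
  rcases cases hS h2 hU2 with hel | ⟨hsq, hne, hshape⟩
  · exact absurd (fun v hv => hZQ v (mem_inv_of_sq hS h2 hv (hel v hv))) hUQ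
  have hgen : ∀ L : Subgroup ↥NBs, L.Normal → Odd L.index → L = ⊤ := by
    intro L hLn hLi
    refine top_unique fun y _ => ?_
    obtain ⟨n, hn, hny⟩ := y.2
    suffices H : ∀ n ∈ Subgroup.closure (Zs Q), ∀ hm : permImg G _ n ∈ NBs, (⟨_, hm⟩ : ↥NBs) ∈ L by
      have := H n hn (hny ▸ y.2)
      rwa [show (⟨permImg G _ n, hny ▸ y.2⟩ : ↥NBs) = y from Subtype.ext hny] at this
    intro n hn
    induction hn using Subgroup.closure_induction with
    | mem w hw =>
      intro hm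
      have h2w : (⟨_, hm⟩ : ↥NBs) ^ 2 = 1 := Subtype.ext (by
        rw [SubmonoidClass.coe_pow, ← map_pow, pow_two, hw.1.2, map_one]; rfl)
      obtain ⟨j, hj⟩ := hLi
      have h3 := L.pow_index_mem (⟨_, hm⟩ : ↥NBs)
      rwa [hj, pow_succ, pow_mul, h2w, one_pow, one_mul] at h3
    | one =>
      intro hm
      rw [show (⟨_, hm⟩ : ↥NBs) = 1 from Subtype.ext (map_one _)]
      exact one_mem _
    | mul a b ha hb iha ihb =>
      intro hm
      rw [show (⟨_, hm⟩ : ↥NBs) = ⟨_, Subgroup.mem_map_of_mem _ ha⟩ * ⟨_, Subgroup.mem_map_of_mem _ hb⟩ from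
        Subtype.ext (map_mul _ _ _)]
      exact mul_mem (iha _) (ihb _)
    | inv a ha iha =>
      intro hm
      rw [show (⟨_, hm⟩ : ↥NBs) = (⟨_, Subgroup.mem_map_of_mem _ ha⟩)⁻¹ from Subtype.ext (map_inv _ _)]
      exact inv_mem (iha _)
  obtain ⟨Δ, hL⟩ := exists_layer hS h2 hU2 hsq hne hshape hgen
  -- the trace of `Q` on `U`
  let H : Subgroup ↥NBs := U ⊓ (Subgroup.map (permImg G (G ⧸ Subgroup.normalizer (Q : Set G))) Q).subgroupOf NBs
  have hH : H = invGroup hS h2 := by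
    refine (hL.cases_subgroup hS h2 (H := H) (fun v hv => ⟨invGroup_le hS h2 hv, hZQ v hv⟩) inf_le_left
      fun d hd v hv => ?_).resolve_right fun e => hUQ fun v hv => (e.ge hv).2
    refine ⟨RankOne.conj_Q hS ((RankOne.mem_D hS).mp (hL.le hd)).1 hv.1, ?_⟩
    obtain ⟨m, -, hm, hmd⟩ := exists_lift h hnn hS ((RankOne.mem_D hS).mp (hL.le hd)).1
    obtain ⟨q, hq, hqe⟩ := hv.2
    refine ⟨m * q * m⁻¹, conj_mem_Q hm hq, ?_⟩
    rw [map_mul, map_mul, map_inv, hmd, hqe]; rfl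
  have hB : ∀ v ∈ U, (v : permGrp G (G ⧸ Subgroup.normalizer (Q : Set G))) ∈
      Subgroup.map (permImg G (G ⧸ Subgroup.normalizer (Q : Set G))) Q → v ∈ invGroup hS h2 :=
    fun v hv hvQ => hH.le ⟨hv, hvQ⟩
  obtain ⟨v, hv, hve⟩ := image_B h hnn hTM hS hU2 h2 hL hsq hne hshape hB hZQ hx
  have hv1 : v ≠ 1 := fun e => hxi.1 (core_B h hnn hTM hS hU2 h2 hL hsq hne hshape hB hZQ hx
    (ff_eq_one.mp (by rw [← hve, e]; rfl)))
  have hvi : IsInv v := ⟨hv1, Subtype.ext (by
    rw [Subgroup.coe_mul, hve, ← map_mul, hxi.2, map_one]; rfl)⟩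
  refine (hone.one_fix v hvi).unique ?_ (RankOne.mem_Q_a hS hv)
  show (v : permGrp G (G ⧸ Subgroup.normalizer (Q : Set G))) • c = c
  rw [hve]
  exact hc

/-- The criterion. -/
theorem stronglyEmbedded (hA : TheoremQ.{u}) :
    Cfsg.IsStronglyEmbedded
      ((Subgroup.normalizer (Q : Set G)).subgroupOf (Subgroup.normalClosure (Q : Set G))) := by
  classical
  haveI : Fact (Nat.Prime 2) := ⟨Nat.prime_two⟩
  set M := Subgroup.normalizer (Q : Set G) with hM
  set K := Subgroup.normalClosure (Q : Set G) with hK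
  obtain ⟨T, z, hTM, hzT, hzQ, hzi, hzc⟩ := exists_sylow h
  have hzK : z ∈ K := Subgroup.subset_normalClosure hzQ
  refine ⟨fun e => hnn (Subgroup.normalizer_eq_top_iff.mp (eq_top_iff.mpr fun g _ => ?_)), ?_, fun g hg => ?_⟩
  · have hgz : g * z * g⁻¹ ∈ K := Subgroup.normalClosure_normal.conj_mem _ hzK g
    exact meet h (hzi.conj g) (Subgroup.subgroupOf_eq_top.mp e hgz)
      (by simpa [mul_assoc] using hzQ)
  · rw [even_iff_two_dvd, ← orderOf_two hzi, ← Subgroup.orderOf_mk z hzK]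
    exact Subgroup.orderOf_dvd_natCard _ (hTM hzT)
  · refine Nat.not_even_iff_odd.mp fun he => hg ?_
    obtain ⟨x, hx, hxi⟩ := TwoClosed.exists_inv_of_even he
    have hxi' : IsInv (x : G) := ⟨fun e => hxi.1 (Subtype.ext e), congrArg Subtype.val hxi.2⟩
    have hxM : (x : G) ∈ M := (Subgroup.mem_inf.mp hx).1
    obtain ⟨m, hm, hmT⟩ := exists_conj_sylow hTM (CfsgLib.AfterFT.CoreSep.zpowers_two hxi'.2)
      (Subgroup.zpowers_le.mpr hxM)
    have hx' : m * (x : G) * m⁻¹ ∈ (T : Subgroup G) ⊓ K :=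
      ⟨hmT _ (Subgroup.mem_zpowers _), Subgroup.normalClosure_normal.conj_mem _ x.2 m⟩
    have e := fix_base h hnn hA hTM hzT hzQ hzi hzc hx' (hxi'.conj m)
      (c := ((m * g : G) : G ⧸ M)) (fix_iff.mpr (by
        obtain ⟨y, hy, hye⟩ := (Subgroup.mem_inf.mp hx).2
        have hy' : (y : G) ∈ M := hy
        rw [show (m * g : G)⁻¹ * (m * (x : G) * m⁻¹) * (m * g) = (g : G)⁻¹ * x * g by group, ← hye]
        simpa [mul_assoc] using hy'))
    have e' := QuotientGroup.eq.mp e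
    rw [mul_one, inv_mem_iff] at e'
    simpa [Subgroup.mem_subgroupOf, mul_assoc] using mul_mem (inv_mem hm) e'

end CfsgLib.Bender.Tight
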