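import Cfsg.Agent.Lib.SuzukiRankOne.Main
import Cfsg.Agent.Lib.Bender.ExtRankOne
import Cfsg.Agent.S1131

/-!
The layers of the regular normal subgroup of a split rank one group in characteristic two: the square of each
element is central, and only the identity of the inverted elements fixes a coset of the involutions.
-/

set_option autoImplicit false
set_option linter.unusedSectionVars false
set_option linter.style.haveILetI false

namespace CfsgLib.Bender.Tight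

open MulAction Cfsg CfsgLib.RankOne CfsgLib.SuzukiRankOne
open CfsgLib.AfterFT.SplitRankOne (invGroup mem_invGroup)

universe u v

variable {G : Type u} {Ω : Type v} [Group G] [Finite G] [MulAction G Ω] [FaithfulSMul G Ω] {a : Ω} {t : G}
  {Q : Subgroup G} (hS : IsRankOneSetup G Ω a t Q) (h2 : Four G)

include hS h2

theorem invGroup_le : invGroup hS h2 ≤ Q := fun _ hx => invol_mem_Q hS hx.1 hx.2

theorem mem_inv_of_sq {x : G} (hx : x ∈ Q) (h : x * x = 1) : x ∈ invGroup hS h2 := ⟨hS.le hx, h⟩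

theorem inv_comm {z x : G} (hz : z ∈ invGroup hS h2) (hx : x ∈ Q) : z * x = x * z := Z_central hS h2 hz hx

/-- The inverted elements as a subgroup. -/
theorem exists_invertedGroup : ∃ C : Subgroup G, (C : Set G) = invertedBy (D a t) t ∧ C ≤ D a t ∧
    Nat.card C = qZ G a - 1 := by
  obtain ⟨C, hC, -, -⟩ := Cfsg.Agent.S1131.result hS h2
  refine ⟨C, hC, fun x hx => (hC.le hx).1, ?_⟩
  rw [← card_inverted_qZ hS, Nat.add_sub_cancel]
  exact Nat.card_congr (Equiv.setCongr hC)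

/-- An inverted element other than one commutes with no element of `Q` other than one. -/
theorem inverted_free {k x : G} (hk : k ∈ invertedBy (D a t) t) (hk1 : k ≠ 1) (hx : x ∈ Q)
    (hc : k * x * k⁻¹ = x) : x = 1 :=
  inverted_cent_Q hS hk hk1 hx (mul_inv_eq_iff_eq_mul.mp hc)

/-- An element fixing the coset of an element of square-central image fixes its square. -/
theorem sq_of_shift {d x y : G} (hy : y ∈ invGroup hS h2) (hx : x ∈ Q) (h : d * x * d⁻¹ = y * x) :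
    d * (x * x) * d⁻¹ = x * x := by
  calc d * (x * x) * d⁻¹ = (d * x * d⁻¹) * (d * x * d⁻¹) := by group
    _ = y * (x * y) * x := by rw [h]; group
    _ = (y * y) * (x * x) := by rw [← inv_comm hS h2 hy hx]; group
    _ = x * x := by rw [hy.2, one_mul]

/-- The conjugates under the inverted elements of one element of order four, times involutions. -/
theorem sq_mem_of_card (hQ : Nat.card Q = qZ G a ^ 2) (hQ2 : IsPGroup 2 Q) (hel : ¬ ∀ x ∈ Q, x * x = 1) :
    ∀ x ∈ Q, x * x ∈ invGroup hS h2 := by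
  classical
  obtain ⟨x₀, hx₀, hne⟩ : ∃ x ∈ Q, x * x ≠ 1 := by simpa using hel
  -- an element of order four
  obtain ⟨n, hn⟩ := hQ2 ⟨x₀, hx₀⟩
  have hn' : x₀ ^ 2 ^ n = 1 := congrArg Subtype.val hn
  obtain ⟨k, hk1, hk2⟩ : ∃ k, x₀ ^ 2 ^ k * x₀ ^ 2 ^ k ≠ 1 ∧
      (x₀ ^ 2 ^ k * x₀ ^ 2 ^ k) * (x₀ ^ 2 ^ k * x₀ ^ 2 ^ k) = 1 := by
    have h : ∀ j, x₀ ^ 2 ^ j * x₀ ^ 2 ^ j = x₀ ^ 2 ^ (j + 1) := fun j => by rw [← pow_add, pow_succ, mul_two]
    simp only [h]
    by_contra hall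
    push Not at hall
    refine (show ∀ j, x₀ ^ 2 ^ (j + 1) ≠ 1 from fun j => ?_) n ?_
    · induction j with
      | zero => simpa [pow_two] using hne
      | succ j ih => exact hall j ih
    · rw [pow_succ, pow_mul, hn', one_pow]
  set x := x₀ ^ 2 ^ k with hxdef
  have hxQ : x ∈ Q := Q.pow_mem hx₀ _
  have hxx : x * x ∈ invGroup hS h2 := mem_inv_of_sq hS h2 (mul_mem hxQ hxQ) hk2
  obtain ⟨C, hC, hCD, hCc⟩ := exists_invertedGroup hS h2
  -- elements of `Q` with central square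
  let A : Set G := {y | y ∈ Q ∧ y * y ∈ invGroup hS h2 ∧ y * y ≠ 1}
  have hfin : A.Finite := Set.toFinite _
  let f : C × invGroup hS h2 → A := fun p => ⟨(p.1 : G) * x * (p.1 : G)⁻¹ * p.2, by
    have hcx : (p.1 : G) * x * (p.1 : G)⁻¹ ∈ Q := conj_Q hS ((mem_D hS).mp (hCD p.1.2)).1 hxQ
    have e : (p.1 : G) * x * (p.1 : G)⁻¹ * p.2 * ((p.1 : G) * x * (p.1 : G)⁻¹ * p.2) =
        (p.1 : G) * (x * x) * (p.1 : G)⁻¹ := by
      rw [mul_assoc ((p.1 : G) * x * (p.1 : G)⁻¹), ← mul_assoc (p.2 : G), inv_comm hS h2 p.2.2 hcx,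
        mul_assoc _ (p.2 : G) (p.2 : G), p.2.2.2, mul_one]
      group
    refine ⟨mul_mem hcx (invGroup_le hS h2 p.2.2), ?_, ?_⟩
    · rw [e]
      exact CfsgLib.AfterFT.SplitRankOne.conj_mem_invGroup hS h2 (hCD p.1.2) hxx
    · rw [e]
      exact fun h => hk1 (conj_eq_one_iff.mp h)⟩
  have hf : Function.Injective f := by
    intro p p' h
    have h' : (p.1 : G) * x * (p.1 : G)⁻¹ * p.2 = (p'.1 : G) * x * (p'.1 : G)⁻¹ * p'.2 := congrArg Subtype.val h
    have hp : p.1 = p'.1 := by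
      by_contra hne'
      have hk : ((p'.1 : G)⁻¹ * p.1) ∈ invertedBy (D a t) t := hC.le (mul_mem (inv_mem p'.1.2) p.1.2)
      refine hk1 (inverted_free hS h2 hk (fun e => hne' ?_) (mul_mem hxQ hxQ) ?_)
      · exact Subtype.ext (inv_mul_eq_one.mp e).symm
      · have hy : (p'.1 : G)⁻¹ * ((p'.2 : G) * (p.2 : G)⁻¹) * p'.1 ∈ invGroup hS h2 := by
          simpa using CfsgLib.AfterFT.SplitRankOne.conj_mem_invGroup hS h2 (inv_mem (hCD p'.1.2))
            (mul_mem p'.2.2 (inv_mem p.2.2))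
        refine sq_of_shift hS h2 hy hxQ ?_
        rw [inv_comm hS h2 hy hxQ]
        calc (p'.1 : G)⁻¹ * p.1 * x * ((p'.1 : G)⁻¹ * p.1)⁻¹
            = (p'.1 : G)⁻¹ * ((p.1 : G) * x * (p.1 : G)⁻¹ * p.2) * ((p.2 : G)⁻¹ * p'.1) := by group
          _ = _ := by rw [h']; group
    exact Prod.ext hp (Subtype.ext (mul_left_cancel (by rwa [hp] at h')))
  have hcard : (qZ G a - 1) * qZ G a ≤ Nat.card A := by
    rw [← hCc, ← card_invGroup hS h2, ← Nat.card_prod]
    haveI : Finite A := hfin.to_subtype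
    exact Nat.card_le_card_of_injective f hf
  -- they and the involutions fill `Q`
  let B : Set G := A ∪ (invGroup hS h2 : Set G)
  have hB : B ⊆ (Q : Set G) := by
    rintro y (hy | hy)
    · exact hy.1
    · exact invGroup_le hS h2 hy
  have hdisj : Disjoint A (invGroup hS h2 : Set G) :=
    Set.disjoint_left.mpr fun y hy hy' => hy.2.2 hy'.2
  have hBQ : B = (Q : Set G) := by
    refine Set.eq_of_subset_of_ncard_le hB ?_ (Set.toFinite _)
    rw [Set.ncard_union_eq hdisj hfin (Set.toFinite _), ← Nat.card_coe_set_eq, ← Nat.card_coe_set_eq,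
      ← Nat.card_coe_set_eq, SetLike.coe_sort_coe, SetLike.coe_sort_coe, card_invGroup hS h2, hQ]
    obtain ⟨m, hm⟩ : ∃ m, qZ G a = m + 1 := ⟨qZ G a - 1, by have := three_le_qZ hS h2; omega⟩
    rw [hm, Nat.add_sub_cancel] at hcard
    rw [hm, pow_two]
    nlinarith
  intro y hy
  rcases hBQ.ge hy with h | h
  · exact h.2.1
  · rw [(mem_invGroup hS h2).mp h |>.2]
    exact one_mem _

/-- The shapes of `Q`: elementary, or every square is central with two possible orders. -/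
theorem cases (hQ2 : IsPGroup 2 Q) : (∀ x ∈ Q, x * x = 1) ∨ ((∀ x ∈ Q, x * x ∈ invGroup hS h2) ∧
    (∃ x ∈ Q, x * x ≠ 1) ∧ ((Nat.card Q = qZ G a ^ 2 ∧ ¬ Rsq a t Q) ∨
      (Nat.card Q = qZ G a ^ 3 ∧ Rsq a t Q ∧ ∀ x ∈ Q, x * x * (x * x) = 1))) := by
  by_cases hel : ∀ x ∈ Q, x * x = 1
  · exact Or.inl hel
  refine Or.inr ?_
  obtain ⟨x₀, hx₀, hne⟩ : ∃ x ∈ Q, x * x ≠ 1 := by simpa using hel
  have hq3 := three_le_qZ hS h2
  have hab := (parts G Ω a t Q hS h2 (iHyp_of_parts parts _)).2 hQ2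
  have hlt : qZ G a < qZ G a ^ 2 := by nlinarith
  have hlt' : qZ G a ^ 2 < qZ G a ^ 3 := Nat.pow_lt_pow_right (by omega) (by omega)
  rcases card_cases hS hQ2 h2 hab hel with hQ | ⟨hQ, hsq, -⟩
  · refine ⟨sq_mem_of_card hS h2 hQ hQ2 hel, ⟨x₀, hx₀, hne⟩, Or.inl ⟨hQ, ?_⟩⟩
    rcases Ext.shape_cases hS h2 with ⟨-, h | h⟩ | ⟨h, -⟩
    · omega
    · omega
    · exact h
  · refine ⟨fun x hx => mem_inv_of_sq hS h2 (mul_mem hx hx) (hsq x hx), ⟨x₀, hx₀, hne⟩, Or.inr ⟨hQ, ?_, hsq⟩⟩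
    rcases Ext.shape_cases hS h2 with ⟨h, -⟩ | ⟨-, h⟩
    · exact h
    · omega

/-- Every involution of the stabiliser is a square. -/
theorem exists_sqrt (hsq : ∀ x ∈ Q, x * x ∈ invGroup hS h2) (hne : ∃ x ∈ Q, x * x ≠ 1) {z : G}
    (hz : z ∈ invGroup hS h2) : ∃ x ∈ Q, x * x = z := by
  obtain ⟨x, hx, hx1⟩ := hne
  by_cases hz1 : z = 1
  · exact ⟨1, one_mem _, by rw [hz1, one_mul]⟩
  obtain ⟨k, hk, e⟩ := exists_conj_inverted hS (s1 := x * x) (s2 := z) ⟨(hsq x hx).1, hx1, (hsq x hx).2⟩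
    ⟨hz.1, hz1, hz.2⟩
  refine ⟨k⁻¹ * x * k, ?_, ?_⟩
  · simpa using conj_Q' hS ((mem_D hS).mp hk.1).1 hx
  · rw [← e]; group

/-- Only the identity among the inverted elements fixes a coset of the involutions outside them. -/
theorem free_coset_inverted (hsq : ∀ x ∈ Q, x * x ∈ invGroup hS h2) {k x : G} (hk : k ∈ invertedBy (D a t) t)
    (hx : x ∈ Q) (hxZ : x ∉ invGroup hS h2) (h : k * x * k⁻¹ * x⁻¹ ∈ invGroup hS h2) : k = 1 := by
  by_contra hk1
  exact hxZ (mem_inv_of_sq hS h2 hx (inverted_free hS h2 hk hk1 (mul_mem hx hx)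
    (sq_of_shift hS h2 h hx (by group))))

end CfsgLib.Bender.Tight
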