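import Cfsg.Agent.Lib.Bender.Q.General
import Cfsg.Agent.Lib.AfterFT.PairClosed.Transfer
import Cfsg.Agent.S0215
import Cfsg.Prelude.Def_Local
import Cfsg.Prelude.Def_Involutions

/-!
A tightly embedded subgroup meeting its other conjugates' normalisers oddly: the criterion for its involutions, the
kernel of the action on the conjugates, and the transfer from the normal closure.
-/

set_option autoImplicit false
set_option linter.unusedSectionVars false
set_option linter.style.haveILetI false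

namespace CfsgLib.Bender.Tight

open MulAction
open CfsgLib.Bender.TwoClosed (IsInv)
open CfsgLib.Bender.Assembly (orderOf_two isInv_of_orderOf fix_iff)
open CfsgLib.Bender.Q (Crit oddRad)

universe u

variable {G : Type u} [Group G] [Finite G]

/-- The hypotheses on `Q`. -/
structure OddMeet (Q : Subgroup G) : Prop where
  tight : Cfsg.IsTightlyEmbedded Q
  odd : ∀ g : G, g ∉ Subgroup.normalizer (Q : Set G) →
    Odd (Nat.card ↥(Q.map (MulAut.conj g).toMonoidHom ⊓ Subgroup.normalizer (Q : Set G)))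

variable {Q : Subgroup G} (h : OddMeet Q)

/-- The involutions conjugate into `Q`. -/
def Zs (Q : Subgroup G) : Set G := {w | IsInv w ∧ ∃ g : G, g⁻¹ * w * g ∈ Q}

theorem conj_mem_Q {g x : G} (hg : g ∈ Subgroup.normalizer (Q : Set G)) (hx : x ∈ Q) : g * x * g⁻¹ ∈ Q :=
  (Subgroup.mem_normalizer_iff.mp hg x).mp hx

theorem le_normalizer' : Q ≤ Subgroup.normalizer (Q : Set G) := Subgroup.le_normalizer

/-- The 2-part of an element. -/
theorem exists_two_pow (x : G) : ∃ m, Odd m ∧ ∃ k : ℕ, (x ^ m) ^ 2 ^ k = 1 := by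
  obtain ⟨k, m, hm, e⟩ := Nat.exists_eq_pow_mul_and_not_dvd (orderOf_pos x).ne' 2 (by norm_num)
  exact ⟨m, Nat.not_even_iff_odd.mp fun hev => hm hev.two_dvd, k, by
    rw [← pow_mul, mul_comm, ← e, pow_orderOf_eq_one]⟩

/-- A power of a non-trivial 2-element is an involution. -/
theorem exists_pow_isInv {x : G} {k : ℕ} (hk : x ^ 2 ^ k = 1) (hx : x ≠ 1) : ∃ n : ℕ, IsInv (x ^ n) := by
  induction k generalizing x with
  | zero => exact absurd (by simpa using hk) hx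
  | succ k ih =>
    by_cases h2 : x * x = 1
    · exact ⟨1, by rw [pow_one]; exact ⟨hx, h2⟩⟩
    · obtain ⟨n, hn⟩ := ih (x := x * x) (by rw [← pow_two, ← pow_mul, ← pow_succ']; exact hk) h2
      exact ⟨2 * n, by rw [pow_mul, pow_two]; exact hn⟩

include h

theorem meet {w g : G} (hw : IsInv w) (hwM : w ∈ Subgroup.normalizer (Q : Set G)) (hg : g⁻¹ * w * g ∈ Q) :
    g ∈ Subgroup.normalizer (Q : Set G) := by
  by_contra hgM
  refine Nat.not_even_iff_odd.mpr (h.odd g hgM) (even_iff_two_dvd.mpr ?_)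
  rw [← orderOf_two hw]
  exact Subgroup.orderOf_dvd_natCard _ ⟨⟨_, hg, by simp [mul_assoc]⟩, hwM⟩

theorem cent_le {w : G} (hw : IsInv w) (hwQ : w ∈ Q) :
    Subgroup.centralizer ({w} : Set G) ≤ Subgroup.normalizer (Q : Set G) := fun c hc =>
  meet h hw (le_normalizer' hwQ) (by
    rw [mul_assoc, ← Subgroup.mem_centralizer_singleton_iff.mp hc, inv_mul_cancel_left]
    exact hwQ)

theorem mem_Q_of_conj {x g : G} {k : ℕ} (hxQ : x ∈ Q) (hk : x ^ 2 ^ k = 1)
    (hg : g * x * g⁻¹ ∈ Subgroup.normalizer (Q : Set G)) : g * x * g⁻¹ ∈ Q := by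
  by_cases hx : x = 1
  · rw [hx, mul_one, mul_inv_cancel]; exact one_mem _
  obtain ⟨n, hn⟩ := exists_pow_isInv hk hx
  refine conj_mem_Q (meet h (w := g * x ^ n * g⁻¹) (hn.conj g) ?_ ?_) hxQ
  · rw [← conj_pow]; exact pow_mem hg n
  · rw [show g⁻¹ * (g * x ^ n * g⁻¹) * g = x ^ n by group]; exact pow_mem hxQ n

/-- A Sylow subgroup of `G` in the normaliser, and an involution of `Q` central in it. -/
theorem exists_sylow : ∃ (T : Sylow 2 G) (z : G), (T : Subgroup G) ≤ Subgroup.normalizer (Q : Set G) ∧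
    z ∈ (T : Subgroup G) ∧ z ∈ Q ∧ IsInv z ∧ ∀ s ∈ (T : Subgroup G), Commute s z := by
  classical
  haveI : Fact (Nat.Prime 2) := ⟨Nat.prime_two⟩
  set M := Subgroup.normalizer (Q : Set G)
  let S₀ : Sylow 2 M := default
  set P := (S₀ : Subgroup M).map M.subtype with hP
  have hP2 : IsPGroup 2 P := S₀.2.map _
  have hPM : P ≤ M := Subgroup.map_subtype_le _
  obtain ⟨T, hT⟩ := hP2.exists_le_sylow
  -- `P` contains an involution of `Q`, central in it
  haveI : (Q.subgroupOf M).Normal := Subgroup.normal_in_normalizer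
  have hodd := CfsgLib.AfterFT.PairClosed.odd_index_inf_normal S₀ (Q.subgroupOf M)
  have hne : (S₀ : Subgroup M) ⊓ Q.subgroupOf M ≠ ⊥ := by
    intro e
    rw [e, Subgroup.relIndex_bot_left, Nat.card_congr (Subgroup.subgroupOfEquivOfLe le_normalizer').toEquiv] at hodd
    exact Nat.not_even_iff_odd.mpr hodd h.tight.1
  have hz : ∃ z : G, z ∈ P ∧ z ∈ Q ∧ IsInv z ∧ ∀ s ∈ P, Commute s z := by
    haveI : ((Q.subgroupOf M).subgroupOf (S₀ : Subgroup M)).Normal := inferInstance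
    haveI : Group.IsNilpotent (S₀ : Subgroup M) := S₀.2.isNilpotent
    haveI : Nontrivial ((Q.subgroupOf M).subgroupOf (S₀ : Subgroup M)) := by
      rw [Subgroup.nontrivial_iff_ne_bot, Ne, Subgroup.subgroupOf_eq_bot, disjoint_iff, inf_comm]
      exact hne
    obtain ⟨y, hy, hy1, hyc⟩ : ∃ y : (S₀ : Subgroup M), y ∈ (Q.subgroupOf M).subgroupOf (S₀ : Subgroup M) ∧
        y ≠ 1 ∧ y ∈ Subgroup.center (S₀ : Subgroup M) := by
      have h1 := CfsgLib.inf_center_ne_bot_of_nilpotent (N := (Q.subgroupOf M).subgroupOf (S₀ : Subgroup M))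
        ((Subgroup.nontrivial_iff_ne_bot _).mp inferInstance)
      obtain ⟨y, hy, hy1⟩ := (Subgroup.bot_or_exists_ne_one _).resolve_left h1
      exact ⟨y, hy.1, hy1, hy.2⟩
    obtain ⟨k, hk⟩ := S₀.2 y
    obtain ⟨n, hn⟩ := exists_pow_isInv hk hy1
    refine ⟨(((y ^ n : (S₀ : Subgroup M)) : M) : G), ⟨_, (y ^ n).2, rfl⟩, ?_, ⟨?_, ?_⟩, ?_⟩
    · exact pow_mem hy n
    · exact fun e => hn.1 (Subtype.ext (Subtype.ext e))
    · exact congrArg (fun w : (S₀ : Subgroup M) => ((w : M) : G)) hn.2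
    · rintro _ ⟨s, hs, rfl⟩
      exact congrArg (fun w : (S₀ : Subgroup M) => ((w : M) : G))
        (Subgroup.mem_center_iff.mp (pow_mem hyc n) ⟨s, hs⟩)
  obtain ⟨z, hzP, hzQ, hzi, hzc⟩ := hz
  have hTP : (T : Subgroup G) ⊓ M ≤ P := by
    intro x hx
    have hle : (S₀ : Subgroup M) ≤ (T : Subgroup G).subgroupOf M := fun y hy => hT ⟨y, hy, rfl⟩
    have heq := S₀.is_maximal' (T.2.comap_subtype (K := M)) hle
    exact ⟨⟨x, hx.2⟩, heq ▸ hx.1, rfl⟩
  have hTM : (T : Subgroup G) ≤ M := by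
    by_contra hTM
    have hlt : P < (T : Subgroup G) := lt_of_le_of_ne hT fun e => hTM (e ▸ hPM)
    haveI : Group.IsNilpotent (T : Subgroup G) := T.2.isNilpotent
    have hlt' : P.subgroupOf (T : Subgroup G) < ⊤ := lt_top_iff_ne_top.mpr fun e =>
      hlt.not_ge (Subgroup.subgroupOf_eq_top.mp e)
    obtain ⟨g, hg, hgP⟩ := SetLike.exists_of_lt (Group.normalizerCondition_of_isNilpotent _ hlt')
    refine hgP ?_
    have hgz : (g : G) * z * (g : G)⁻¹ ∈ P :=
      (Subgroup.mem_normalizer_iff.mp hg ⟨z, hT hzP⟩).mp hzP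
    have hgM : (g : G) ∈ M := meet h (w := (g : G) * z * (g : G)⁻¹) (hzi.conj _) (hPM hgz)
      (by rw [show (g : G)⁻¹ * ((g : G) * z * (g : G)⁻¹) * g = z by group]; exact hzQ)
    exact hTP ⟨g.2, hgM⟩
  exact ⟨T, z, hTM, hT hzP, hzQ, hzi, fun s hs => hzc s (hTP ⟨hs, hTM hs⟩)⟩

theorem crit (hnn : ¬ Q.Normal) : Crit (Subgroup.normalizer (Q : Set G)) (Zs Q) := by
  set M := Subgroup.normalizer (Q : Set G)
  obtain ⟨T, z, hTM, hzT, hzQ, hzi, hzc⟩ := exists_sylow h
  have hmem : ∀ {w : G}, w ∈ Zs Q → w ∈ M → w ∈ Q := fun {w} hw hwM => by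
    obtain ⟨hwi, g, hg⟩ := hw
    simpa [mul_assoc] using conj_mem_Q (meet h hwi hwM hg) hg
  refine ⟨fun e => hnn (Subgroup.normalizer_eq_top_iff.mp e), fun w hw => hw.1, ?_, ?_, ?_,
    ⟨T, hTM, z, ⟨hzi, 1, by simpa using hzQ⟩, le_normalizer' hzQ, hzc⟩, ?_⟩
  · rintro w ⟨hw, g, hg⟩ k
    exact ⟨hw.conj k, k * g, by rwa [show (k * g)⁻¹ * (k * w * k⁻¹) * (k * g) = g⁻¹ * w * g by group]⟩
  · rintro w ⟨-, g, hg⟩
    exact ⟨g, le_normalizer' hg⟩
  · intro w hw hwM g hg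
    exact meet h (hw.1.conj g) hg (by
      rw [show g⁻¹ * (g * w * g⁻¹) * g = w by group]; exact hmem hw hwM)
  · intro y hy z hz hyM hzM hne hyz
    refine cent_le h ⟨fun e => hne ?_, ?_⟩ (mul_mem (hmem hy hyM) (hmem hz hzM))
    · rw [eq_inv_of_mul_eq_one_left e, hz.1.inv]
    · rw [mul_assoc, ← mul_assoc z, ← hyz, mul_assoc y, hz.1.2, mul_one, hy.1.2]

theorem mem_Q_of_mem_Zs {w : G} (hw : w ∈ Zs Q) (hwM : w ∈ Subgroup.normalizer (Q : Set G)) : w ∈ Q := by
  obtain ⟨hwi, g, hg⟩ := hw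
  simpa [mul_assoc] using conj_mem_Q (meet h hwi hwM hg) hg

/-- `Q` meets the kernel of the action in odd order. -/
theorem not_inv_core (hnn : ¬ Q.Normal) {w : G} (hw : IsInv w) (hwQ : w ∈ Q) :
    w ∉ (Subgroup.normalizer (Q : Set G)).normalCore := fun hc => by
  have hwZ : w ∈ Zs Q := ⟨hw, 1, by simpa using hwQ⟩
  exact CfsgLib.Bender.Q.member_moves (crit h hnn).hyp hwZ fun c => CfsgLib.Bender.Q.fix_normalCore hc c

/-- A 2-element of `Q` in the kernel is trivial. -/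
theorem eq_one_of_mem_core (hnn : ¬ Q.Normal) {x : G} {k : ℕ} (hxQ : x ∈ Q) (hk : x ^ 2 ^ k = 1)
    (hc : x ∈ (Subgroup.normalizer (Q : Set G)).normalCore) : x = 1 := by
  by_contra hx
  obtain ⟨n, hn⟩ := exists_pow_isInv hk hx
  exact not_inv_core h hnn hn (pow_mem hxQ n) (pow_mem hc n)

/-- The normal closure centralises the kernel modulo its odd core. -/
theorem comm_core (hnn : ¬ Q.Normal) {g : G} (hg : g ∈ Subgroup.normalClosure (Q : Set G)) {w : G}
    (hw : w ∈ (Subgroup.normalizer (Q : Set G)).normalCore) :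
    g * w * g⁻¹ * w⁻¹ ∈ oddRad (Subgroup.normalizer (Q : Set G)).normalCore := by
  set W := (Subgroup.normalizer (Q : Set G)).normalCore with hW
  haveI hOn : (oddRad W).Normal :=
    ⟨fun o ho g => CfsgLib.Bender.Q.oddRad_conj (by rw [Subgroup.normalizer_eq_top]; exact Subgroup.mem_top g) ho⟩
  let C : Subgroup G :=
    { carrier := {g | ∀ w ∈ W, g * w * g⁻¹ * w⁻¹ ∈ oddRad W}
      one_mem' := fun w _ => by simp
      mul_mem' := fun {a b} ha hb w hw => by
        rw [show a * b * w * (a * b)⁻¹ * w⁻¹ = a * (b * w * b⁻¹ * w⁻¹) * a⁻¹ * (a * w * a⁻¹ * w⁻¹) by group]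
        exact mul_mem (hOn.conj_mem _ (hb w hw) a) (ha w hw)
      inv_mem' := fun {a} ha w hw => by
        have h1 := inv_mem (ha _ ((inferInstance : W.Normal).conj_mem w hw a⁻¹))
        rw [show a⁻¹ * w * a⁻¹⁻¹ = a⁻¹ * w * a by rw [inv_inv]] at h1
        rw [show (a * (a⁻¹ * w * a) * a⁻¹ * (a⁻¹ * w * a)⁻¹)⁻¹ = a⁻¹ * w * a⁻¹⁻¹ * w⁻¹ by group] at h1
        exact h1 }
  haveI : C.Normal := ⟨fun a ha g w hw => by
    have h1 := hOn.conj_mem _ (ha _ ((inferInstance : W.Normal).conj_mem w hw g⁻¹)) g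
    rwa [show g * (a * (g⁻¹ * w * g⁻¹⁻¹) * a⁻¹ * (g⁻¹ * w * g⁻¹⁻¹)⁻¹) * g⁻¹ =
      g * a * g⁻¹ * w * (g * a * g⁻¹)⁻¹ * w⁻¹ by group] at h1⟩
  refine (Subgroup.normalClosure_le_normal (N := C) (fun q hq w hw => ?_)) hg w hw
  have hWM := (Subgroup.normalizer (Q : Set G)).normalCore_le
  have hle : Q ⊓ W ≤ oddRad W := by
    refine CfsgLib.Bender.Q.le_oddRad inf_le_right ?_ fun x hx y hy =>
      ⟨conj_mem_Q (hWM hx) hy.1, W.mul_mem (W.mul_mem hx hy.2) (W.inv_mem hx)⟩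
    refine Nat.not_even_iff_odd.mp fun he => ?_
    obtain ⟨x, hx, hxi⟩ := TwoClosed.exists_inv_of_even he
    exact not_inv_core h hnn hxi hx.1 hx.2
  refine hle ⟨?_, W.mul_mem ((inferInstance : W.Normal).conj_mem w hw q) (W.inv_mem hw)⟩
  rw [show q * w * q⁻¹ * w⁻¹ = q * (w * q⁻¹ * w⁻¹) by group]
  exact mul_mem hq (conj_mem_Q (hWM hw) (inv_mem hq))

/-- A central element of a Sylow subgroup of the normal closure in the kernel. -/
theorem comm_core_sylow (hnn : ¬ Q.Normal) {T : Sylow 2 G} {g w : G}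
    (hg : g ∈ Subgroup.normalClosure (Q : Set G)) (hw : w ∈ (Subgroup.normalizer (Q : Set G)).normalCore)
    (hmem : g * w * g⁻¹ ∈ (T : Subgroup G)) (hwT : w ∈ (T : Subgroup G)) : g * w * g⁻¹ = w := by
  haveI : Fact (Nat.Prime 2) := ⟨Nat.prime_two⟩
  have ho := comm_core h hnn hg hw
  have h1 := CfsgLib.Bender.Q.odd_orderOf_oddRad ho
  obtain ⟨k, hk⟩ := T.2 ⟨_, mul_mem hmem (inv_mem hwT)⟩
  have h2 : orderOf (g * w * g⁻¹ * w⁻¹) ∣ 2 ^ k := orderOf_dvd_of_pow_eq_one (congrArg Subtype.val hk)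
  exact mul_inv_eq_one.mp (orderOf_eq_one_iff.mp
    (Nat.eq_one_of_dvd_coprimes ((Nat.coprime_two_right.mpr h1).pow_right k) dvd_rfl h2))

/-- The transfer: a homomorphism of the Sylow subgroup of the normal closure that kills `Q` kills the kernel. -/
theorem mem_of_transfer (hnn : ¬ Q.Normal) {T : Sylow 2 G} (hTM : (T : Subgroup G) ≤ Subgroup.normalizer (Q : Set G))
    (H : Subgroup ↥((T : Subgroup G) ⊓ Subgroup.normalClosure (Q : Set G))) [H.Normal]
    (hcomm : ∀ x y : ↥((T : Subgroup G) ⊓ Subgroup.normalClosure (Q : Set G)), x * y * x⁻¹ * y⁻¹ ∈ H)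
    (hQ : ∀ x : ↥((T : Subgroup G) ⊓ Subgroup.normalClosure (Q : Set G)), (x : G) ∈ Q → x ∈ H)
    (x : ↥((T : Subgroup G) ⊓ Subgroup.normalClosure (Q : Set G)))
    (hx : (x : G) ∈ (Subgroup.normalizer (Q : Set G)).normalCore) : x ∈ H := by
  classical
  haveI : Fact (Nat.Prime 2) := ⟨Nat.prime_two⟩
  let C := ↥((T : Subgroup G) ⊓ (Subgroup.normalClosure (Q : Set G))) ⧸ H
  letI : CommGroup C := CommGroup.mk fun a b => by
    induction a using QuotientGroup.induction_on with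
    | _ a =>
      induction b using QuotientGroup.induction_on with
      | _ b =>
        refine mul_inv_eq_iff_eq_mul.mp (show (a : C) * (b : C) * (a : C)⁻¹ = b from mul_inv_eq_one.mp ?_)
        exact (QuotientGroup.eq_one_iff _).mpr (hcomm a b)
  let φ : ↥((T : Subgroup G) ⊓ (Subgroup.normalClosure (Q : Set G))) →* C := QuotientGroup.mk' H
  set P : Subgroup (Subgroup.normalClosure (Q : Set G)) := ((T : Subgroup G) ⊓ (Subgroup.normalClosure (Q : Set G))).subgroupOf (Subgroup.normalClosure (Q : Set G)) with hP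
  have hodd : Odd P.index := CfsgLib.AfterFT.PairClosed.odd_index_inf_normal T (Subgroup.normalClosure (Q : Set G))
  let ψ : P →* C := φ.comp (Subgroup.subgroupOfEquivOfLe inf_le_right).toMonoidHom
  let V : (Subgroup.normalClosure (Q : Set G)) →* C := MonoidHom.transfer ψ
  have hC2 : ∀ c : C, ∃ j : ℕ, c ^ 2 ^ j = 1 := fun c => by
    induction c using QuotientGroup.induction_on with
    | _ a =>
      obtain ⟨j, hj⟩ := (T.2.to_le inf_le_left : IsPGroup 2 ↥((T : Subgroup G) ⊓ (Subgroup.normalClosure (Q : Set G)))) a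
      exact ⟨j, by rw [← QuotientGroup.mk_pow, hj, QuotientGroup.mk_one]⟩
  -- conjugates of the 2-elements of `Q` are killed
  have hkill : ∀ y : (Subgroup.normalClosure (Q : Set G)), (∃ q ∈ Q, ∃ k : ℕ, q ^ 2 ^ k = 1 ∧ ∃ c : G, c * q * c⁻¹ = y) → V y = 1 := by
    rintro y ⟨q, hq, k, hk, c, hc⟩
    haveI : Fintype (Quotient (MulAction.orbitRel (Subgroup.zpowers y) ((Subgroup.normalClosure (Q : Set G)) ⧸ P))) := Fintype.ofFinite _
    show MonoidHom.transfer ψ y = 1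
    rw [MonoidHom.transfer_eq_prod_quotient_orbitRel_zpowers_quot]
    refine Finset.prod_eq_one fun o _ => ?_
    show φ _ = 1
    refine (QuotientGroup.eq_one_iff _).mpr (hQ _ ?_)
    set n := Function.minimalPeriod (y • ·) o.out
    have hP' := (Subgroup.mem_subgroupOf.mp (QuotientGroup.out_conj_pow_minimalPeriod_mem P y o.out)).1
    set e₀ : (Subgroup.normalClosure (Q : Set G)) := o.out.out
    have e : ((e₀⁻¹ * y ^ n * e₀ : (Subgroup.normalClosure (Q : Set G))) : G) = ((e₀ : G)⁻¹ * c) * q ^ n * ((e₀ : G)⁻¹ * c)⁻¹ := by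
      push_cast
      rw [← hc, conj_pow]
      group
    show ((e₀⁻¹ * y ^ n * e₀ : (Subgroup.normalClosure (Q : Set G))) : G) ∈ Q
    rw [e] at hP' ⊢
    exact mem_Q_of_conj h (pow_mem hq n) (k := k)
      (by rw [← pow_mul, mul_comm, pow_mul, hk, one_pow]) (hTM hP')
  have hconj : ∀ y : (Subgroup.normalClosure (Q : Set G)), (y : G) ∈ Group.conjugatesOfSet (Q : Set G) → V y = 1 := by
    intro y hy
    obtain ⟨q, hq, hqy⟩ := Group.mem_conjugatesOfSet_iff.mp hy
    obtain ⟨c, hc⟩ := isConj_iff.mp hqy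
    obtain ⟨m, hm, k, hk⟩ := exists_two_pow q
    have h1 : V (y ^ m) = 1 := hkill _ ⟨q ^ m, pow_mem hq m, k, hk, c, by
      rw [← conj_pow, hc, SubmonoidClass.coe_pow]⟩
    rw [map_pow] at h1
    obtain ⟨j, hj⟩ := hC2 (V y)
    have := pow_gcd_eq_one.mpr ⟨h1, hj⟩
    rwa [((Nat.coprime_two_right.mpr hm).pow_right j).gcd_eq_one, pow_one] at this
  have hV : ∀ y : (Subgroup.normalClosure (Q : Set G)), V y = 1 := by
    rintro ⟨y, hy⟩
    induction hy using Subgroup.closure_induction with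
    | mem z hz => exact hconj ⟨z, Subgroup.subset_closure hz⟩ hz
    | one => exact map_one V
    | mul a b ha hb iha ihb =>
      show V (⟨a, ha⟩ * ⟨b, hb⟩) = 1
      rw [map_mul, iha, ihb, mul_one]
    | inv a ha iha =>
      show V (⟨a, ha⟩⁻¹) = 1
      rw [map_inv, iha, inv_one]
  -- on the kernel the transfer is a power
  let x' : (Subgroup.normalClosure (Q : Set G)) := ⟨x, x.2.2⟩
  have key : ∀ (n : ℕ) (g₀ : (Subgroup.normalClosure (Q : Set G))), g₀⁻¹ * x' ^ n * g₀ ∈ P → g₀⁻¹ * x' ^ n * g₀ = x' ^ n := fun n g₀ hg₀ => by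
    refine Subtype.ext ?_
    have h1 := (Subgroup.mem_subgroupOf.mp hg₀).1
    push_cast at h1 ⊢
    have := comm_core_sylow h hnn (g := (g₀ : G)⁻¹) (w := (x : G) ^ n) (inv_mem g₀.2) (pow_mem hx n)
      (by rwa [inv_inv]) (pow_mem x.2.1 n)
    rwa [inv_inv] at this
  have h1 : V x' = ψ ⟨x' ^ P.index, MonoidHom.transfer_eq_pow_aux x' key⟩ := MonoidHom.transfer_eq_pow ψ x' key
  rw [hV x'] at h1
  have h2 : φ (x ^ P.index) = 1 := h1.symm
  rw [map_pow] at h2
  obtain ⟨j, hj⟩ := hC2 (φ x)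
  have := pow_gcd_eq_one.mpr ⟨h2, hj⟩
  rw [((Nat.coprime_two_right.mpr hodd).pow_right j).gcd_eq_one, pow_one] at this
  exact (QuotientGroup.eq_one_iff _).mp this

/-- An element of `T ∩ K` that is `Q` times an element of odd order modulo `Q` lies in `Q`. -/
theorem rank_one (hnn : ¬ Q.Normal) {T : Sylow 2 G} (hTM : (T : Subgroup G) ≤ Subgroup.normalizer (Q : Set G))
    (hone : ∀ y z : G, IsInv y → IsInv z → y ∈ Q → z ∈ Q → y * z = z * y → y = z) {z : G}
    (hzT : z ∈ (T : Subgroup G)) (hzQ : z ∈ Q) (hzi : IsInv z) (hzc : ∀ s ∈ (T : Subgroup G), Commute s z)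
    {x : G} (hxT : x ∈ (T : Subgroup G)) (hxK : x ∈ Subgroup.normalClosure (Q : Set G)) (hx2 : x * x = 1) :
    x ∈ Q := by
  set M := Subgroup.normalizer (Q : Set G)
  obtain ⟨N₀, hN₀, hodd, hcomm⟩ := Cfsg.Agent.S0215.result T z (orderOf_two hzi) hzT fun g hg => by
    have hgQ : g * z * g⁻¹ ∈ Q := mem_Q_of_mem_Zs h ⟨hzi.conj g, g, by simpa [mul_assoc] using hzQ⟩ (hTM hg)
    exact hone _ _ (hzi.conj g) hzi hgQ hzQ (hzc _ hg).eq
  haveI := hN₀
  have hGM : ∀ g : G, g ∈ N₀ ⊔ M := by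
    intro g
    set v := g * z * g⁻¹ with hv
    have hzv : z * v ∈ N₀ := by
      have h1 := hcomm g
      rw [hzi.inv] at h1
      rw [hv]
      simpa [mul_assoc] using h1
    have hord : Odd (orderOf (z * v)) := hodd.of_dvd_nat (Subgroup.orderOf_dvd_natCard _ hzv)
    obtain ⟨m, hm⟩ := CfsgLib.Involutions.exists_sqrt hord
    obtain ⟨d, hd, e⟩ := CfsgLib.Involutions.exists_conj_eq_of_odd hzi.2 (hzi.conj g).2 hord
    have hle : Subgroup.closure ({z, v} : Set G) ≤ N₀ ⊔ Subgroup.zpowers z := by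
      rw [Subgroup.closure_le]
      rintro y (rfl | rfl)
      · exact Subgroup.mem_sup_right (Subgroup.mem_zpowers _)
      · have := Subgroup.mul_mem _ (Subgroup.mem_sup_right (S := N₀) (Subgroup.mem_zpowers z))
          (Subgroup.mem_sup_left (T := Subgroup.zpowers z) hzv)
        rwa [← mul_assoc, hzi.2, one_mul] at this
    have hdm : d ∈ N₀ ⊔ M := sup_le_sup_left (Subgroup.zpowers_le.mpr (le_normalizer' hzQ)) _ (hle hd)
    have hc : d⁻¹ * g ∈ M := cent_le h hzi hzQ (Subgroup.mem_centralizer_singleton_iff.mpr (by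
      calc d⁻¹ * g * z = d⁻¹ * (g * z * g⁻¹) * g := by group
        _ = d⁻¹ * (d * z * d⁻¹) * g := by rw [e]
        _ = z * (d⁻¹ * g) := by group))
    have := mul_mem hdm (Subgroup.mem_sup_right (S := N₀) hc)
    rwa [mul_inv_cancel_left] at this
  haveI : (N₀ ⊔ Q).Normal := ⟨fun y hy g => by
    obtain ⟨n, hn, m, hm, rfl⟩ := Subgroup.mem_sup_of_normal_left.mp (hGM g)
    obtain ⟨n', hn', q, hq, rfl⟩ := Subgroup.mem_sup_of_normal_left.mp hy
    rw [show n * m * (n' * q) * (n * m)⁻¹ = n * ((m * n' * m⁻¹) * (m * q * m⁻¹)) * n⁻¹ by group]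
    exact mul_mem (mul_mem (Subgroup.mem_sup_left hn) (mul_mem (Subgroup.mem_sup_left (hN₀.conj_mem n' hn' m))
      (Subgroup.mem_sup_right (conj_mem_Q hm hq)))) (Subgroup.mem_sup_left (inv_mem hn))⟩
  obtain ⟨n, hn, q, hq, rfl⟩ := Subgroup.mem_sup_of_normal_left.mp
    (Subgroup.normalClosure_le_normal (N := N₀ ⊔ Q) (fun y hy => Subgroup.mem_sup_right hy) hxK)
  have hnM : n ∈ M := by
    simpa [mul_assoc] using mul_mem (hTM hxT) (inv_mem (le_normalizer' hq))
  refine mul_mem ?_ hq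
  have hn2 : n * n ∈ Q := by
    have e : n * n = (n * q * (n * q)) * (q⁻¹ * (n⁻¹ * q⁻¹ * n⁻¹⁻¹)) := by group
    rw [e, hx2, one_mul]
    exact mul_mem (inv_mem hq) (conj_mem_Q (inv_mem hnM) (inv_mem hq))
  obtain ⟨j, hj⟩ : Odd (orderOf n) := hodd.of_dvd_nat (Subgroup.orderOf_dvd_natCard _ hn)
  have e : n = (n * n) ^ (j + 1) := by
    rw [← pow_two, ← pow_mul, show 2 * (j + 1) = orderOf n + 1 by omega, pow_succ, pow_orderOf_eq_one, one_mul]
  rw [e]
  exact pow_mem hn2 _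

end CfsgLib.Bender.Tight
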